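import Groth.Agent.RatRes.K97.ModTools
import Groth.Agent.S1283
import Groth.Agent.Flat2C.StrictTr

/-!
# Modifications of an open subscheme are dominated by modifications of the whole scheme

`exists_extend`: `W ⊆ Z` a nonempty quasi-compact open of a quasi-compact quasi-separated integral scheme, `r : Z₁ ⟶ W` a
modification; then there is a modification `b : Z' ⟶ Z` such that `b⁻¹ W ⟶ W` factors through `r`.
-/

set_option autoImplicit false
universe u
open CategoryTheory CategoryTheory.Limits AlgebraicGeometry TopologicalSpace Opposite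

namespace K74.Extend

open Groth.Agent.CurvesC.ModDim Groth.Agent.CurvesC.Modif K376.Dominate K97.ModTools
open Groth.Agent

theorem isPullback_mono {A B D : Scheme.{u}} (r : A ⟶ B) (i : B ⟶ D) [Mono i] : IsPullback (𝟙 A) r (r ≫ i) i :=
  ⟨⟨by simp⟩, ⟨PullbackCone.IsLimit.mk _ (fun s => s.fst) (fun s => Category.comp_id _) (fun s => by
    rw [← cancel_mono i, Category.assoc, s.condition]) (fun s m h₁ _ => by
    rw [← h₁, Category.comp_id])⟩⟩

theorem exists_extend {Z : Scheme.{u}} [IsIntegral Z] [CompactSpace Z] [QuasiSeparatedSpace Z] (W : Z.Opens)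
    (hWne : (W : Set Z).Nonempty) (hWc : IsCompact (W : Set Z)) {Z₁ : Scheme.{u}} (r : Z₁ ⟶ W.toScheme) (hr : IsModif r) :
    ∃ (Z' : Scheme.{u}) (b : Z' ⟶ Z) (t : (b ⁻¹ᵁ W).toScheme ⟶ Z₁), IsModif b ∧ t ≫ r = b ∣_ W := by
  have hWn : Nonempty W.toScheme := hWne.to_subtype
  have hWi : IsIntegral W.toScheme := inferInstance
  have := hr.proper
  have := hr.integral
  have := hr.surjective
  obtain ⟨U₁, hU₁, hrU⟩ := hr.exists_isIso
  -- a nonempty affine open of `W` over which `r` is an isomorphism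
  obtain ⟨w, hw⟩ := hU₁
  obtain ⟨U₀, hU₀a, hwU₀, hU₀⟩ := exists_isAffineOpen_mem_and_subset (x := w) (U := U₁) hw
  let U : Z.Opens := W.ι ''ᵁ U₀
  have hUa : IsAffineOpen U := hU₀a.image_of_isOpenImmersion W.ι
  have hUc : IsCompact (U : Set Z) := hUa.isCompact
  have hUne : (U : Set Z).Nonempty := ⟨W.ι w, w, hwU₀, rfl⟩
  have hUW : U ≤ W := by
    rintro _ ⟨x, -, rfl⟩
    exact x.2
  let φ : Z₁ ⟶ Z := r ≫ W.ι
  have hmono : IsPullback (𝟙 Z₁) r φ W.ι := isPullback_mono r W.ι
  have hφU : IsIso (φ ∣_ U) := by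
    have hU0 : IsIso (r ∣_ U₀) := isIso_morphismRestrict_of_le r hU₀
    let ι₁ : U.toScheme ⟶ W.toScheme := Z.homOfLE hUW
    have h1 : ι₁ ≫ W.ι = U.ι := Z.homOfLE_ι hUW
    have h2 := (isPullback_morphismRestrict φ U).flip
    have h3 : IsPullback (φ ⁻¹ᵁ U).ι (φ ∣_ U) r ι₁ := by
      refine IsPullback.of_right ?_ ?_ hmono
      · rw [Category.comp_id, h1]
        exact h2
      · rw [← cancel_mono W.ι, Category.assoc, Category.assoc, h1]
        exact h2.w
    refine isIso_of_isPullback h3 U₀ ?_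
    rintro _ ⟨x, rfl⟩
    obtain ⟨y, hy, hyx⟩ := x.2
    have h4 : W.ι (ι₁ x) = x.1 := by
      rw [← Scheme.Hom.comp_apply, h1]
      rfl
    have h5 : ι₁ x = y := by
      apply W.ι.isOpenEmbedding.injective
      rw [h4]
      exact hyx.symm
    rw [h5]
    exact hy
  have hWcs : CompactSpace W.toScheme := isCompact_iff_compactSpace.mp hWc
  have hqcW : QuasiCompact W.ι := inferInstance
  obtain ⟨𝓘, Z', b, hb, hadm, H⟩ := Groth.Agent.S1283.result φ U hUc
  have hUc' : ∀ y ∈ U, y ∈ Flat2C.StrictTr.compl 𝓘 := fun y hy hy' =>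
    Set.disjoint_left.mp hadm.2 hy' hy
  have hI : 𝓘 ≠ ⊥ := by
    rintro rfl
    obtain ⟨y, hy⟩ := hUne
    have h1 : y ∉ (⊥ : Z.IdealSheafData).support := hUc' _ hy
    rw [Scheme.IdealSheafData.support_bot] at h1
    exact h1 trivial
  have hbm : IsModif b := IsModif.of_isBlowUp hI hadm.1 hb
  have := hbm.integral
  have := hbm.proper
  have := hbm.surjective
  let E := (𝓘.comap φ).comap (pullback.fst φ b)
  have hft : BlowUp.IsFiniteTypeIdeal E :=
    Flat2C.StrictTr.isFiniteTypeIdeal_comap (Flat2C.StrictTr.isFiniteTypeIdeal_comap hadm.1 φ) _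
  let J := Flat2C.StrictTr.killedIdeal E
  have hj : IsOpenImmersion (J.subschemeι ≫ pullback.snd φ b) :=
    H _ (pullback.fst φ b) (pullback.snd φ b) (IsPullback.of_hasPullback φ b) J
      (Flat2C.StrictTr.isKilledIdeal_killedIdeal hft)
  -- the strict transform maps to `b⁻¹ W`
  let j := J.subschemeι ≫ pullback.snd φ b
  have hjW : ∀ z : (pullback φ b : Scheme.{u}), pullback.snd φ b z ∈ b ⁻¹ᵁ W := by
    intro z
    change b (pullback.snd φ b z) ∈ W
    rw [← Scheme.Hom.comp_apply, ← pullback.condition, Scheme.Hom.comp_apply]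
    exact (r (pullback.fst φ b z)).2
  let π : pullback φ b ⟶ (b ⁻¹ᵁ W).toScheme := IsOpenImmersion.lift (b ⁻¹ᵁ W).ι (pullback.snd φ b) (by
    rw [Scheme.Opens.range_ι]
    rintro _ ⟨z, rfl⟩
    exact hjW z)
  have hπ : π ≫ (b ⁻¹ᵁ W).ι = pullback.snd φ b := IsOpenImmersion.lift_fac _ _ _
  have hπpb : IsPullback π (pullback.fst φ b) (b ∣_ W) r := by
    refine IsPullback.of_right ?_ ?_ (isPullback_morphismRestrict b W).flip
    · rw [hπ]
      exact (IsPullback.of_hasPullback φ b).flip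
    · rw [← cancel_mono W.ι, Category.assoc, morphismRestrict_ι, ← Category.assoc, hπ, ← pullback.condition,
        Category.assoc]
  have hπp : IsProper π := MorphismProperty.of_isPullback (P := @IsProper) hπpb.flip inferInstance
  let j' : J.subscheme ⟶ (b ⁻¹ᵁ W).toScheme := J.subschemeι ≫ π
  have hj'ι : j' ≫ (b ⁻¹ᵁ W).ι = J.subschemeι ≫ pullback.snd φ b := by
    rw [Category.assoc, hπ]
  have hj'o : IsOpenImmersion j' := by
    have : IsOpenImmersion (j' ≫ (b ⁻¹ᵁ W).ι) := by rw [hj'ι]; exact hj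
    exact IsOpenImmersion.of_comp j' (b ⁻¹ᵁ W).ι
  have hj'p : IsProper j' := inferInstance
  -- nonempty
  have hne : Nonempty J.subscheme := by
    have hr : Set.range J.subschemeι = closure (Flat2C.StrictTr.compl E : Set (pullback φ b : Scheme.{u})) := by
      rw [Scheme.IdealSheafData.range_subschemeι, Flat2C.StrictTr.coe_support_killedIdeal hft]
    have hc : Flat2C.StrictTr.compl E = pullback.snd φ b ⁻¹ᵁ (b ⁻¹ᵁ Flat2C.StrictTr.compl 𝓘) := by
      change Flat2C.StrictTr.compl ((𝓘.comap φ).comap (pullback.fst φ b)) = _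
      rw [← Scheme.IdealSheafData.comap_comp, pullback.condition, Scheme.IdealSheafData.comap_comp,
        Flat2C.StrictTr.compl_comap, Flat2C.StrictTr.compl_comap]
    obtain ⟨y, hy⟩ := hUne
    obtain ⟨y', hy'⟩ := b.surjective y
    obtain ⟨x, hx⟩ := r.surjective ⟨y, hUW hy⟩
    obtain ⟨z, -, hz2⟩ := Scheme.Pullback.exists_preimage_pullback (f := φ) (g := b) x y' (by
      change W.ι (r x) = b y'
      rw [hx, hy']
      rfl)
    have hz : z ∈ closure (Flat2C.StrictTr.compl E : Set (pullback φ b : Scheme.{u})) := by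
      refine subset_closure ?_
      rw [hc]
      change b (pullback.snd φ b z) ∈ Flat2C.StrictTr.compl 𝓘
      rw [hz2, hy']
      exact hUc' y hy
    rw [← hr] at hz
    obtain ⟨w, -⟩ := hz
    exact ⟨w⟩
  have hW'n : Nonempty (b ⁻¹ᵁ W).toScheme := by
    obtain ⟨y, hy⟩ := hWne
    obtain ⟨y', rfl⟩ := b.surjective y
    exact ⟨⟨y', hy⟩⟩
  have hW'i : IsIntegral (b ⁻¹ᵁ W).toScheme := inferInstance
  have hj's : Surjective j' := by
    refine ⟨?_⟩
    rw [← Set.range_eq_univ]
    refine IsClopen.eq_univ ⟨j'.isClosedMap.isClosed_range, j'.isOpenEmbedding.isOpen_range⟩ (Set.range_nonempty _)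
  have hj'i : IsIso j' := (isIso_iff_isOpenImmersion_and_surjective j').2 ⟨hj'o, hj's⟩
  refine ⟨Z', b, inv j' ≫ J.subschemeι ≫ pullback.fst φ b, hbm, ?_⟩
  rw [← cancel_mono W.ι, morphismRestrict_ι]
  simp only [Category.assoc]
  rw [show r ≫ W.ι = φ from rfl, pullback.condition, ← Category.assoc J.subschemeι, ← hj'ι, Category.assoc,
    IsIso.inv_hom_id_assoc]

end K74.Extend
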