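import Groth.Agent.RatRes.K74.SCVan
import Groth.Agent.RatRes.K74.Extend

/-!
# Comparison: if classes die locally on modifications, then `H^q(X, O)` is the colimit of the `H^q(Z, O)`

* `Kill U`: every modification `Z` of `U` has a modification on which all classes of positive degree of `Z` vanish.
* `Inj X q U`, `Surj X q U`: injectivity and surjectivity (in the colimit) of `H^q(U, O_X) → colim H^q(p⁻¹ U, O_Z)`.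
* `compare`: if `X` is normal integral and the members of `𝓑` (closed under intersections) satisfy `Kill`, then `Inj` and
  `Surj` hold for all finite unions of members of `𝓑`.
-/

set_option autoImplicit false
universe u

open CategoryTheory CategoryTheory.Limits AlgebraicGeometry TopologicalSpace Opposite

namespace K74.Compare

open Groth.Agent.CurvesC.ModDim Groth.Agent.CurvesC.Modif K97.ModTools K74.HC K74.SC K74.Extend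

/-- Classes of positive degree on modifications of `U` die on further modifications (one modification for all
classes of a given degree). -/
def Kill (U : Scheme.{u}) : Prop :=
  ∀ (n : ℕ) {Z : Scheme.{u}} (p : Z ⟶ U), IsModif p → ∃ (Z' : Scheme.{u}) (r : Z' ⟶ Z), IsModif r ∧
    ∀ x : C Z (n + 1) ⊤, pbk r (n + 1) (V := ⊤) (le_refl _) x = 0

/-- Injectivity. -/
def Inj (X : Scheme.{u}) (q : ℕ) (U : X.Opens) : Prop :=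
  ∀ {Z : Scheme.{u}} (p : Z ⟶ X), IsModif p → ∀ α : C X q U, pbk p q (le_refl (p ⁻¹ᵁ U)) α = 0 → α = 0

/-- Surjectivity (uniform: one modification for all classes). -/
def Surj (X : Scheme.{u}) (q : ℕ) (U : X.Opens) : Prop :=
  ∀ {Z : Scheme.{u}} (p : Z ⟶ X), IsModif p → ∃ (Z' : Scheme.{u}) (r : Z' ⟶ Z), IsModif r ∧ ∀ α : C Z q (p ⁻¹ᵁ U),
    ∃ β : C X q U, pbk r q (le_refl (r ⁻¹ᵁ (p ⁻¹ᵁ U))) α = pbk (r ≫ p) q (le_refl ((r ≫ p) ⁻¹ᵁ U)) β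

theorem pbk_le {X Z Z' : Scheme.{u}} {n : ℕ} (f : Z' ⟶ Z) (p : Z ⟶ X) {U : X.Opens} {x : C Z n (p ⁻¹ᵁ U)} {y : C X n U}
    (h : pbk f n (le_refl (f ⁻¹ᵁ (p ⁻¹ᵁ U))) x = pbk (f ≫ p) n (le_refl ((f ≫ p) ⁻¹ᵁ U)) y) {V : Z'.Opens}
    (hV : V ≤ f ⁻¹ᵁ (p ⁻¹ᵁ U)) : pbk f n hV x = pbk (f ≫ p) n (U := U) hV y := by
  rw [← res_pbk f n (le_refl _) hV, h]
  exact res_pbk (f ≫ p) n (le_refl _) hV y

theorem pbk_comp_eq {X Z Z' Z'' : Scheme.{u}} {n : ℕ} (g : Z'' ⟶ Z') (f : Z' ⟶ Z) (p : Z ⟶ X) {U : X.Opens}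
    {x : C Z n (p ⁻¹ᵁ U)} {y : C X n U}
    (h : pbk f n (le_refl (f ⁻¹ᵁ (p ⁻¹ᵁ U))) x = pbk (f ≫ p) n (le_refl ((f ≫ p) ⁻¹ᵁ U)) y) {V : Z''.Opens}
    (hV : V ≤ (g ≫ f) ⁻¹ᵁ (p ⁻¹ᵁ U)) : pbk (g ≫ f) n hV x = pbk (g ≫ f ≫ p) n (U := U) hV y := by
  have e1 := pbk_pbk f n g (le_refl (f ⁻¹ᵁ (p ⁻¹ᵁ U))) (W := V) hV hV x
  have e2 := pbk_pbk (f ≫ p) n g (le_refl ((f ≫ p) ⁻¹ᵁ U)) (W := V) hV hV y
  rw [← e1, h]
  exact e2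

section step

variable {X : Scheme.{u}} {A B D U : X.Opens} (h₄ : U = A ⊔ B) (h₁ : D = A ⊓ B)

include h₄ in
theorem pre_sup {Z : Scheme.{u}} (p : Z ⟶ X) : p ⁻¹ᵁ U = p ⁻¹ᵁ A ⊔ p ⁻¹ᵁ B := by
  rw [h₄]; rfl

include h₁ in
theorem pre_inf {Z : Scheme.{u}} (p : Z ⟶ X) : p ⁻¹ᵁ D = p ⁻¹ᵁ A ⊓ p ⁻¹ᵁ B := by
  rw [h₁]; rfl

include h₄ h₁ in
theorem inj_step (q : ℕ) (iA : Inj X (q + 1) A) (iB : Inj X (q + 1) B) (sA : Surj X q A) (sB : Surj X q B)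
    (iD : Inj X q D) : Inj X (q + 1) U := by
  intro Z p hp α hα
  have e1 : res (q + 1) (leAW h₄) α = 0 := by
    apply iA p hp
    rw [pbk_res]
    have := congrArg (res (q + 1) (p.preimage_mono (leAW h₄))) hα
    rwa [res_pbk, map_zero] at this
  have e2 : res (q + 1) (leBW h₄) α = 0 := by
    apply iB p hp
    rw [pbk_res]
    have := congrArg (res (q + 1) (p.preimage_mono (leBW h₄))) hα
    rwa [res_pbk, map_zero] at this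
  obtain ⟨γ, rfl⟩ := exists_of_res_eq_zero h₄ h₁ q α e1 e2
  have e3 : dl (pre_sup h₄ p) (pre_inf h₁ p) q (pbk p q (le_refl (p ⁻¹ᵁ D)) γ) = 0 := by
    rw [← hα]
    exact (pbk_dl h₄ h₁ (pre_sup h₄ p) (pre_inf h₁ p) p (le_refl _) (le_refl _) (le_refl _) (le_refl _) q γ).symm
  obtain ⟨a, b, hab⟩ := exists_of_dl_eq_zero (pre_sup h₄ p) (pre_inf h₁ p) q _ e3
  obtain ⟨Z₁, r₁, hr₁, hr₁'⟩ := sA p hp
  obtain ⟨a₀, ha₀⟩ := hr₁' a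
  obtain ⟨Z₂, r₂, hr₂, hr₂'⟩ := sB (r₁ ≫ p) (hr₁.comp hp)
  obtain ⟨b₀, hb₀⟩ := hr₂' (pbk r₁ q (le_refl (r₁ ⁻¹ᵁ (p ⁻¹ᵁ B))) b)
  have hs : IsModif (r₂ ≫ r₁ ≫ p) := hr₂.comp (hr₁.comp hp)
  have hDA := leCA h₁
  have hDB := leCB h₁
  have key : γ = res q hDA a₀ - res q hDB b₀ := by
    rw [← sub_eq_zero]
    apply iD (r₂ ≫ r₁ ≫ p) hs
    rw [map_sub, map_sub, sub_eq_zero, pbk_res, pbk_res]
    have h0 := pbk_pbk p q (r₂ ≫ r₁) (le_refl (p ⁻¹ᵁ D)) (W := (r₂ ≫ r₁) ⁻¹ᵁ (p ⁻¹ᵁ D)) (le_refl _) (le_refl _) γ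
    refine (show _ = _ from h0.symm).trans ?_
    rw [← hab, map_sub, pbk_res, pbk_res]
    congr 1
    · exact pbk_comp_eq r₂ r₁ p ha₀ ((r₂ ≫ r₁).preimage_mono (p.preimage_mono hDA))
    · have h2 := pbk_pbk r₁ q r₂ (le_refl (r₁ ⁻¹ᵁ (p ⁻¹ᵁ B))) (W := (r₂ ≫ r₁) ⁻¹ᵁ (p ⁻¹ᵁ D))
        ((r₂ ≫ r₁).preimage_mono (p.preimage_mono hDB)) ((r₂ ≫ r₁).preimage_mono (p.preimage_mono hDB)) b
      rw [← h2]
      exact pbk_le r₂ (r₁ ≫ p) hb₀ ((r₂ ≫ r₁).preimage_mono (p.preimage_mono hDB))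
  rw [key]
  exact dl_res_sub h₄ h₁ q a₀ b₀

include h₄ h₁ in
theorem surj_step (q : ℕ) (sA : Surj X (q + 1) A) (sB : Surj X (q + 1) B) (iD : Inj X (q + 1) D) (sD : Surj X q D) :
    Surj X (q + 1) U := by
  intro Z p hp
  have hAU := leAW h₄
  have hBU := leBW h₄
  have hDA := leCA h₁
  have hDB := leCB h₁
  obtain ⟨Z₁, r₁, hr₁, hr₁'⟩ := sA p hp
  obtain ⟨Z₂, r₂, hr₂, hr₂'⟩ := sB (r₁ ≫ p) (hr₁.comp hp)
  have hr : IsModif (r₂ ≫ r₁) := hr₂.comp hr₁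
  have hs : IsModif ((r₂ ≫ r₁) ≫ p) := hr.comp hp
  obtain ⟨Z₃, r₃, hr₃, hr₃'⟩ := sD ((r₂ ≫ r₁) ≫ p) hs
  refine ⟨Z₃, r₃ ≫ r₂ ≫ r₁, hr₃.comp hr, fun α => ?_⟩
  obtain ⟨a₀, ha₀⟩ := hr₁' (res (q + 1) (p.preimage_mono hAU) α)
  obtain ⟨b₀, hb₀⟩ := hr₂' (pbk r₁ (q + 1) (le_refl (r₁ ⁻¹ᵁ (p ⁻¹ᵁ B))) (res (q + 1) (p.preimage_mono hBU) α))
  have eA : pbk (r₂ ≫ r₁) (q + 1) (V := (r₂ ≫ r₁) ⁻¹ᵁ (p ⁻¹ᵁ A)) (le_refl _) (res (q + 1) (p.preimage_mono hAU) α) =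
      pbk ((r₂ ≫ r₁) ≫ p) (q + 1) (le_refl _) a₀ := pbk_comp_eq r₂ r₁ p ha₀ (le_refl _)
  have eB : pbk (r₂ ≫ r₁) (q + 1) (V := (r₂ ≫ r₁) ⁻¹ᵁ (p ⁻¹ᵁ B)) (le_refl _) (res (q + 1) (p.preimage_mono hBU) α) =
      pbk ((r₂ ≫ r₁) ≫ p) (q + 1) (le_refl _) b₀ := by
    have h2 := pbk_pbk r₁ (q + 1) r₂ (le_refl (r₁ ⁻¹ᵁ (p ⁻¹ᵁ B))) (W := (r₂ ≫ r₁) ⁻¹ᵁ (p ⁻¹ᵁ B))
      (le_refl _) (le_refl _) (res (q + 1) (p.preimage_mono hBU) α)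
    rw [← h2]
    exact hb₀
  generalize r₂ ≫ r₁ = r at hr hs eA eB r₃ hr₃'
  have eA' : ∀ {V : Z₂.Opens} (hV : V ≤ r ⁻¹ᵁ (p ⁻¹ᵁ A)), pbk r (q + 1) (U := p ⁻¹ᵁ U)
      (hV.trans (r.preimage_mono (p.preimage_mono hAU))) α = pbk (r ≫ p) (q + 1) (U := A) hV a₀ := by
    intro V hV
    have h1 := pbk_le r p eA hV
    rw [pbk_res] at h1
    exact h1
  have eB' : ∀ {V : Z₂.Opens} (hV : V ≤ r ⁻¹ᵁ (p ⁻¹ᵁ B)), pbk r (q + 1) (U := p ⁻¹ᵁ U)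
      (hV.trans (r.preimage_mono (p.preimage_mono hBU))) α = pbk (r ≫ p) (q + 1) (U := B) hV b₀ := by
    intro V hV
    have h1 := pbk_le r p eB hV
    rw [pbk_res] at h1
    exact h1
  have hab : res (q + 1) hDA a₀ = res (q + 1) hDB b₀ := by
    rw [← sub_eq_zero]
    apply iD (r ≫ p) hs
    rw [map_sub, sub_eq_zero, pbk_res, pbk_res]
    exact (eA' ((r ≫ p).preimage_mono hDA)).symm.trans (eB' ((r ≫ p).preimage_mono hDB))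
  obtain ⟨β₀, hβA, hβB⟩ := exists_of_res_eq h₄ h₁ (q + 1) a₀ b₀ hab
  have hrp : (r ≫ p) ⁻¹ᵁ U ≤ r ⁻¹ᵁ (p ⁻¹ᵁ U) := le_refl _
  let y : C Z₂ (q + 1) ((r ≫ p) ⁻¹ᵁ U) := pbk r (q + 1) hrp α
  let z : C Z₂ (q + 1) ((r ≫ p) ⁻¹ᵁ U) := pbk (r ≫ p) (q + 1) (le_refl ((r ≫ p) ⁻¹ᵁ U)) β₀
  have x1 : res (q + 1) ((r ≫ p).preimage_mono hAU) (y - z) = 0 := by
    rw [map_sub, sub_eq_zero]
    refine (res_pbk r (q + 1) hrp ((r ≫ p).preimage_mono hAU) α).trans ((eA' (le_refl _)).trans ?_)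
    rw [← hβA, pbk_res]
    exact (res_pbk (r ≫ p) (q + 1) (le_refl _) ((r ≫ p).preimage_mono hAU) β₀).symm
  have x2 : res (q + 1) ((r ≫ p).preimage_mono hBU) (y - z) = 0 := by
    rw [map_sub, sub_eq_zero]
    refine (res_pbk r (q + 1) hrp ((r ≫ p).preimage_mono hBU) α).trans ((eB' (le_refl _)).trans ?_)
    rw [← hβB, pbk_res]
    exact (res_pbk (r ≫ p) (q + 1) (le_refl _) ((r ≫ p).preimage_mono hBU) β₀).symm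
  obtain ⟨γ, hγ⟩ := exists_of_res_eq_zero (pre_sup h₄ (r ≫ p)) (pre_inf h₁ (r ≫ p)) q _ x1 x2
  obtain ⟨γ₀, hγ₀⟩ := hr₃' γ
  refine ⟨β₀ + dl h₄ h₁ q γ₀, ?_⟩
  have y1 : pbk r₃ (q + 1) (le_refl (r₃ ⁻¹ᵁ ((r ≫ p) ⁻¹ᵁ U))) y = pbk (r₃ ≫ r) (q + 1)
      (U := p ⁻¹ᵁ U) (V := (r₃ ≫ r) ⁻¹ᵁ (p ⁻¹ᵁ U)) (le_refl _) α :=
    pbk_pbk r (q + 1) r₃ hrp (W := (r₃ ≫ r) ⁻¹ᵁ (p ⁻¹ᵁ U)) (le_refl _) (le_refl _) α
  have y2 : y = dl (pre_sup h₄ (r ≫ p)) (pre_inf h₁ (r ≫ p)) q γ + z := by rw [hγ, sub_add_cancel]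
  have y3 : pbk r₃ (q + 1) (le_refl (r₃ ⁻¹ᵁ ((r ≫ p) ⁻¹ᵁ U))) (dl (pre_sup h₄ (r ≫ p)) (pre_inf h₁ (r ≫ p)) q γ) =
      pbk (r₃ ≫ r ≫ p) (q + 1) (le_refl ((r₃ ≫ r ≫ p) ⁻¹ᵁ U)) (dl h₄ h₁ q γ₀) := by
    refine (pbk_dl (pre_sup h₄ (r ≫ p)) (pre_inf h₁ (r ≫ p)) (pre_sup h₄ (r₃ ≫ r ≫ p)) (pre_inf h₁ (r₃ ≫ r ≫ p)) r₃
      (le_refl _) (le_refl _) (le_refl _) (le_refl _) q γ).trans ?_
    refine Eq.trans ?_ (pbk_dl h₄ h₁ (pre_sup h₄ (r₃ ≫ r ≫ p)) (pre_inf h₁ (r₃ ≫ r ≫ p)) (r₃ ≫ r ≫ p)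
      (le_refl _) (le_refl _) (le_refl _) (le_refl _) q γ₀).symm
    exact congrArg _ hγ₀
  have y4 : pbk r₃ (q + 1) (le_refl (r₃ ⁻¹ᵁ ((r ≫ p) ⁻¹ᵁ U))) z =
      pbk (r₃ ≫ r ≫ p) (q + 1) (le_refl ((r₃ ≫ r ≫ p) ⁻¹ᵁ U)) β₀ :=
    pbk_pbk (r ≫ p) (q + 1) r₃ (le_refl ((r ≫ p) ⁻¹ᵁ U)) (W := (r₃ ≫ r ≫ p) ⁻¹ᵁ U) (le_refl _) (le_refl _) β₀
  refine y1.symm.trans ?_
  rw [y2, map_add, y3, y4]
  exact (map_add (pbk (r₃ ≫ r ≫ p) (q + 1) (le_refl ((r₃ ≫ r ≫ p) ⁻¹ᵁ U))) (dl h₄ h₁ q γ₀) β₀).symm.trans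
    (congrArg (pbk (r₃ ≫ r ≫ p) (q + 1) (le_refl ((r₃ ≫ r ≫ p) ⁻¹ᵁ U))) (add_comm _ _))

end step

/-! ### Degree zero and affine pieces -/

theorem pbk_zero_bijective {X Z : Scheme.{u}} (p : Z ⟶ X) (U : X.Opens) (h : IsIso (p.app U)) :
    Function.Bijective (pbk p 0 (le_refl (p ⁻¹ᵁ U))) := by
  have h1 : (sec Z (p ⁻¹ᵁ U)) ∘ (H0 (OO Z) (p ⁻¹ᵁ U)) ∘ pbk p 0 (le_refl (p ⁻¹ᵁ U)) =
      (p.app U) ∘ (sec X U) ∘ (H0 (OO X) U) := by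
    funext x
    refine (H0_pbk p (le_refl (p ⁻¹ᵁ U)) x).trans ?_
    rw [Scheme.Hom.appLE]
    exact ConcreteCategory.congr_hom (show p.app U ≫ Z.presheaf.map (𝟙 (op (p ⁻¹ᵁ U))) = p.app U by
      rw [CategoryTheory.Functor.map_id, Category.comp_id]) _
  have h2 : Function.Bijective ((p.app U) ∘ (sec X U) ∘ (H0 (OO X) U)) :=
    (ConcreteCategory.bijective_of_isIso (p.app U)).comp ((sec X U).bijective.comp (H0 (OO X) U).bijective)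
  rw [← h1] at h2
  exact (Function.Bijective.of_comp_iff' (H0 _ _).bijective _).1
    ((Function.Bijective.of_comp_iff' (sec Z (p ⁻¹ᵁ U)).bijective _).1 h2)

section base

variable {X : Scheme.{u}} [IsIntegral X] (hX : Pi1.IsNormalScheme X)

include hX in
theorem inj_zero (U : X.Opens) : Inj X 0 U := fun p hp α hα =>
  (pbk_zero_bijective p U (isIso_app hX hp U)).1 (hα.trans (map_zero _).symm)

include hX in
theorem surj_zero (U : X.Opens) : Surj X 0 U := by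
  intro Z p hp
  have hid : IsModif (𝟙 Z) := ⟨inferInstance, hp.integral, ⊤, by
    have := hp.integral
    exact ⟨genericPoint Z, trivial⟩, inferInstance⟩
  refine ⟨Z, 𝟙 Z, hid, fun α => ?_⟩
  obtain ⟨β, rfl⟩ := (pbk_zero_bijective p U (isIso_app hX hp U)).2 α
  exact ⟨β, pbk_pbk p 0 (𝟙 Z) (le_refl _) (le_refl _) (le_refl _) β⟩

theorem isModif_id (Z : Scheme.{u}) (hZ : IsIntegral Z) : IsModif (𝟙 Z) :=
  ⟨inferInstance, hZ, ⊤, ⟨genericPoint Z, trivial⟩, inferInstance⟩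

omit [IsIntegral X] in
theorem inj_bot (q : ℕ) (U : X.Opens) (hU : U = ⊥) : Inj X q U := fun _ _ α _ => by
  have := subsingleton_bot X q U hU
  exact Subsingleton.elim _ _

omit [IsIntegral X] in
theorem surj_bot (q : ℕ) (U : X.Opens) (hU : U = ⊥) : Surj X q U := by
  intro Z p hp
  refine ⟨Z, 𝟙 Z, isModif_id Z hp.integral, fun α => ⟨0, ?_⟩⟩
  have := subsingleton_bot Z q (𝟙 Z ⁻¹ᵁ (p ⁻¹ᵁ U)) (by subst hU; rfl)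
  exact Subsingleton.elim _ _

omit [IsIntegral X] in
theorem inj_affine (q : ℕ) (U : X.Opens) (hU : IsAffineOpen U) : Inj X (q + 1) U := fun _ _ α _ => by
  have := subsingleton_of_isAffineOpen X q U hU
  exact Subsingleton.elim _ _

theorem surj_affine [CompactSpace X] [QuasiSeparatedSpace X] (q : ℕ) (U : X.Opens) (hU : IsAffineOpen U)
    (hne : (U : Set X).Nonempty) (hK : Kill U.toScheme) : Surj X (q + 1) U := by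
  intro Z p hp
  have := hp.proper
  have := hp.integral
  have := hp.surjective
  have : CompactSpace Z := QuasiCompact.compactSpace_of_compactSpace p
  have : QuasiSeparatedSpace Z := quasiSeparatedSpace_of_quasiSeparated p
  obtain ⟨Z₁, r₁, hr₁, hkill⟩ := hK q (p ∣_ U) (isModif_restrict hp U hne)
  have hWne : ((p ⁻¹ᵁ U : Z.Opens) : Set Z).Nonempty := by
    obtain ⟨y, hy⟩ := hne
    obtain ⟨z, rfl⟩ := p.surjective y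
    exact ⟨z, hy⟩
  have hWc : IsCompact ((p ⁻¹ᵁ U : Z.Opens) : Set Z) := QuasiCompact.isCompact_preimage (f := p) _ U.2 hU.isCompact
  obtain ⟨Z', b, t, hb, ht⟩ := exists_extend (p ⁻¹ᵁ U) hWne hWc r₁ hr₁
  let W := p ⁻¹ᵁ U
  suffices main : ∀ α : C Z (q + 1) W, pbk b (q + 1) (le_refl (b ⁻¹ᵁ W)) α = 0 from
    ⟨Z', b, hb, fun α => ⟨0, (main α).trans (map_zero (pbk (b ≫ p) (q + 1) (le_refl ((b ≫ p) ⁻¹ᵁ U)))).symm⟩⟩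
  intro α
  apply (pbk_ι_bijective Z' (q + 1) (b ⁻¹ᵁ W)).1
  rw [map_zero]
  have e1 := pbk_pbk b (q + 1) (b ⁻¹ᵁ W).ι (le_refl (b ⁻¹ᵁ W)) (W := ⊤)
    (le_of_eq (Scheme.Opens.ι_preimage_self (b ⁻¹ᵁ W)).symm)
    (le_of_eq (Scheme.Opens.ι_preimage_self (b ⁻¹ᵁ W)).symm) α
  refine e1.trans ?_
  have key : ∀ (g : (b ⁻¹ᵁ W).toScheme ⟶ Z) (hg : g = (b ∣_ W) ≫ W.ι) (h : ⊤ ≤ g ⁻¹ᵁ W),
      pbk g (q + 1) (V := ⊤) h α = 0 := by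
    rintro g rfl h
    have e2 := pbk_pbk W.ι (q + 1) (b ∣_ W) (le_of_eq (Scheme.Opens.ι_preimage_self W).symm) (W := ⊤)
      (le_refl _) h α
    rw [← e2]
    generalize pbk W.ι (q + 1) _ α = x
    have key2 : ∀ (g' : (b ⁻¹ᵁ W).toScheme ⟶ W.toScheme) (hg' : g' = t ≫ r₁),
      pbk g' (q + 1) (U := ⊤) (V := ⊤) (le_refl _) x = 0 := by
      rintro g' rfl
      have e3 := pbk_pbk r₁ (q + 1) t (U := ⊤) (V := ⊤) (le_refl _) (W := ⊤) (le_refl _) (le_refl _) x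
      rw [← e3, hkill x, map_zero]
    exact key2 _ ht.symm
  exact key _ (morphismRestrict_ι b W).symm _

end base

/-! ### Finite unions -/

/-- Unions of `n` members of `𝓑`. -/
def Cov {X : Scheme.{u}} (𝓑 : Set X.Opens) : ℕ → X.Opens → Prop
  | 0, U => U = ⊥
  | n + 1, U => ∃ A B, Cov 𝓑 n A ∧ B ∈ 𝓑 ∧ U = A ⊔ B

theorem Cov.inf {X : Scheme.{u}} {𝓑 : Set X.Opens} (h𝓑 : ∀ A ∈ 𝓑, ∀ B ∈ 𝓑, A ⊓ B ∈ 𝓑) (n : ℕ) :
    ∀ (A : X.Opens), Cov 𝓑 n A → ∀ B ∈ 𝓑, Cov 𝓑 n (A ⊓ B) := by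
  induction n with
  | zero =>
    intro A hA B _
    have hA' : A = ⊥ := hA
    change A ⊓ B = ⊥
    rw [hA', bot_inf_eq]
  | succ n ih =>
    rintro A ⟨A', B', hA', hB', rfl⟩ B hB
    exact ⟨A' ⊓ B, B' ⊓ B, ih A' hA' B hB, h𝓑 B' hB' B hB, inf_sup_right _ _ _⟩

theorem compare {X : Scheme.{u}} [IsIntegral X] (hX : Pi1.IsNormalScheme X) [CompactSpace X] [QuasiSeparatedSpace X]
    (𝓑 : Set X.Opens) (h𝓑 : ∀ A ∈ 𝓑, ∀ B ∈ 𝓑, A ⊓ B ∈ 𝓑) (haff : ∀ A ∈ 𝓑, IsAffineOpen A)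
    (hK : ∀ A ∈ 𝓑, (A : Set X).Nonempty → Kill A.toScheme) (q : ℕ) :
    ∀ (n : ℕ) (U : X.Opens), Cov 𝓑 n U → Inj X q U ∧ Surj X q U := by
  induction q with
  | zero => exact fun _ U _ => ⟨inj_zero hX U, surj_zero hX U⟩
  | succ q ihq =>
    intro n
    induction n with
    | zero => exact fun U hU => ⟨inj_bot _ U hU, surj_bot _ U hU⟩
    | succ n ihn =>
      rintro U ⟨A, B, hA, hB, h₄⟩
      have iB : Inj X (q + 1) B := inj_affine q B (haff B hB)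
      have sB : Surj X (q + 1) B := by
        rcases (B : Set X).eq_empty_or_nonempty with hem | hne
        · exact surj_bot _ B (by ext1; exact hem)
        · exact surj_affine q B (haff B hB) hne (hK B hB hne)
      obtain ⟨iA, sA⟩ := ihn A hA
      have hD := Cov.inf h𝓑 n A hA B hB
      obtain ⟨iD, sD⟩ := ihn (A ⊓ B) hD
      obtain ⟨iA', sA'⟩ := ihq n A hA
      obtain ⟨iD', sD'⟩ := ihq n (A ⊓ B) hD
      have hBcov : Cov 𝓑 1 B := ⟨⊥, B, rfl, hB, (bot_sup_eq _).symm⟩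
      obtain ⟨iB', sB'⟩ := ihq 1 B hBcov
      exact ⟨inj_step h₄ rfl q iA iB sA' sB' iD', surj_step h₄ rfl q sA sB iD sD'⟩

/-- Quasi-compact opens are finite unions of members of a basis. -/
theorem exists_cov {X : Scheme.{u}} (𝓑 : Set X.Opens) (hbas : Opens.IsBasis 𝓑) (U : X.Opens) (hU : IsCompact (U : Set X)) :
    ∃ n, Cov 𝓑 n U := by
  obtain ⟨Us, hUs, hfin, rfl⟩ := hbas.exists_finite_of_isCompact hU
  clear hU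
  induction Us, hfin using Set.Finite.induction_on with
  | empty => exact ⟨0, sSup_empty⟩
  | @insert A s _ _ ih =>
    obtain ⟨n, hn⟩ := ih (fun x hx => hUs (Set.mem_insert_of_mem _ hx))
    exact ⟨n + 1, sSup s, A, hn, hUs (Set.mem_insert _ _), by rw [sSup_insert, sup_comm]⟩

/-- The comparison for quasi-compact opens. -/
theorem compare_of_isCompact {X : Scheme.{u}} [IsIntegral X] (hX : Pi1.IsNormalScheme X) [CompactSpace X]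
    [QuasiSeparatedSpace X] (𝓑 : Set X.Opens) (hbas : Opens.IsBasis 𝓑) (h𝓑 : ∀ A ∈ 𝓑, ∀ B ∈ 𝓑, A ⊓ B ∈ 𝓑)
    (haff : ∀ A ∈ 𝓑, IsAffineOpen A) (hK : ∀ A ∈ 𝓑, (A : Set X).Nonempty → Kill A.toScheme) (q : ℕ) (U : X.Opens)
    (hU : IsCompact (U : Set X)) : Inj X q U ∧ Surj X q U := by
  obtain ⟨n, hn⟩ := exists_cov 𝓑 hbas U hU
  exact compare hX 𝓑 h𝓑 haff hK q n U hn

end K74.Compare
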