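import Mathlib.Algebra.Homology.DerivedCategory.Ext.Map
import Mathlib.Algebra.Homology.DerivedCategory.Ext.EnoughInjectives
import Mathlib.CategoryTheory.Abelian.Injective.Basic

/-!
# Maps on Ext groups induced by an exact functor and two morphisms

For `L : C ⥤ D` exact, `a : Q ⟶ L P`, `b : L G ⟶ H`: `pm L a b n : Ext P G n →+ Ext Q H n`.
-/

set_option autoImplicit false
universe w w' w'' v v' v'' u u' u''

open CategoryTheory CategoryTheory.Limits CategoryTheory.Abelian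

noncomputable section

namespace K74.ExtPM

variable {C : Type u} [Category.{v} C] [Abelian C] [HasExt.{w} C]
  {D : Type u'} [Category.{v'} D] [Abelian D] [HasExt.{w'} D]
  {E : Type u''} [Category.{v''} E] [Abelian E] [HasExt.{w''} E]

section

variable (L : C ⥤ D) [L.Additive] [PreservesFiniteLimits L] [PreservesFiniteColimits L]
  {P P' G G' : C} {Q Q' H H' : D}

/-- The induced map. -/
def pm (a : Q ⟶ L.obj P) (b : L.obj G ⟶ H) (n : ℕ) : Ext P G n →+ Ext Q H n :=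
  ((Ext.mk₀ a).precomp H (zero_add n)).comp
    (((Ext.mk₀ b).postcomp (L.obj P) (add_zero n)).comp (L.mapExtAddHom P G n))

theorem pm_apply (a : Q ⟶ L.obj P) (b : L.obj G ⟶ H) (n : ℕ) (x : Ext P G n) :
    pm L a b n x = (Ext.mk₀ a).comp ((Ext.mapExactFunctor L x).comp (Ext.mk₀ b) (add_zero n)) (zero_add n) := rfl

theorem precomp_pm (a : Q ⟶ L.obj P) (b : L.obj G ⟶ H) (q : Q' ⟶ Q) (n : ℕ) (x : Ext P G n) :
    (Ext.mk₀ q).comp (pm L a b n x) (zero_add n) = pm L (q ≫ a) b n x := by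
  rw [pm_apply, pm_apply, Ext.mk₀_comp_mk₀_assoc]

theorem pm_precomp (a : Q ⟶ L.obj P') (b : L.obj G ⟶ H) (p : P' ⟶ P) (n : ℕ) (x : Ext P G n) :
    pm L a b n ((Ext.mk₀ p).comp x (zero_add n)) = pm L (a ≫ L.map p) b n x := by
  rw [pm_apply, pm_apply, Ext.mapExactFunctor_comp, Ext.mapExactFunctor_mk₀, Ext.comp_assoc_of_third_deg_zero,
    Ext.mk₀_comp_mk₀_assoc]

theorem pm_postcomp (a : Q ⟶ L.obj P) (b : L.obj G' ⟶ H) (g : G ⟶ G') (n : ℕ) (x : Ext P G n) :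
    pm L a b n (x.comp (Ext.mk₀ g) (add_zero n)) = pm L a (L.map g ≫ b) n x := by
  rw [pm_apply, pm_apply, Ext.mapExactFunctor_comp, Ext.mapExactFunctor_mk₀, Ext.comp_assoc_of_third_deg_zero,
    Ext.mk₀_comp_mk₀]

theorem postcomp_pm (a : Q ⟶ L.obj P) (b : L.obj G ⟶ H) (h : H ⟶ H') (n : ℕ) (x : Ext P G n) :
    (pm L a b n x).comp (Ext.mk₀ h) (add_zero n) = pm L a (b ≫ h) n x := by
  rw [pm_apply, pm_apply, Ext.comp_assoc_of_third_deg_zero, Ext.comp_assoc_of_third_deg_zero, Ext.mk₀_comp_mk₀]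

theorem pm_mk₀ (a : Q ⟶ L.obj P) (b : L.obj G ⟶ H) (x : P ⟶ G) :
    pm L a b 0 (Ext.mk₀ x) = Ext.mk₀ (a ≫ L.map x ≫ b) := by
  rw [pm_apply, Ext.mapExactFunctor_mk₀, Ext.mk₀_comp_mk₀, Ext.mk₀_comp_mk₀]

/-- Covariant connecting maps. -/
theorem pm_extClass {S : ShortComplex C} {S' : ShortComplex D} (hS : S.ShortExact) (hS' : S'.ShortExact)
    (φ : S.map L ⟶ S') (a : Q ⟶ L.obj P) {n m : ℕ} (hn : n + 1 = m) (x : Ext P S.X₃ n) :
    pm L a φ.τ₁ m (x.comp hS.extClass hn) = (pm L a φ.τ₃ n x).comp hS'.extClass hn := by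
  have hnat := ShortComplex.ShortExact.extClass_naturality (hS.map_of_exact L) hS' φ
  rw [pm_apply, pm_apply, Ext.mapExactFunctor_comp, Ext.mapExactFunctor_extClass]
  rw [Ext.comp_assoc _ _ _ (zero_add n) hn (by omega)]
  congr 1
  rw [Ext.comp_assoc _ _ _ hn (add_zero 1) (by omega), Ext.comp_assoc _ _ _ (add_zero n) (zero_add 1) (by omega)]
  exact congrArg (fun t => (Ext.mapExactFunctor L x).comp t hn) hnat

/-- Contravariant connecting maps. -/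
theorem extClass_pm {S : ShortComplex C} {S' : ShortComplex D} (hS : S.ShortExact) (hS' : S'.ShortExact)
    (φ : S' ⟶ S.map L) (b : L.obj G ⟶ H) {n m : ℕ} (hn : 1 + n = m) (x : Ext S.X₁ G n) :
    hS'.extClass.comp (pm L φ.τ₁ b n x) hn = pm L φ.τ₃ b m (hS.extClass.comp x hn) := by
  have hnat := ShortComplex.ShortExact.extClass_naturality hS' (hS.map_of_exact L) φ
  have h2 : hS'.extClass.comp (Ext.mk₀ φ.τ₁) (add_zero 1) =
    (Ext.mk₀ φ.τ₃).comp (hS.map_of_exact L).extClass (zero_add 1) := hnat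
  refine Eq.trans (Ext.comp_assoc hS'.extClass (Ext.mk₀ φ.τ₁) _ (add_zero 1) (zero_add n) (by omega)).symm ?_
  refine Eq.trans (congrArg (fun t => Ext.comp t ((Ext.mapExactFunctor L x).comp (Ext.mk₀ b) (add_zero n)) hn) h2) ?_
  rw [pm_apply, Ext.mapExactFunctor_comp, Ext.mapExactFunctor_extClass]
  refine Eq.trans (Ext.comp_assoc (Ext.mk₀ φ.τ₃) (hS.map_of_exact L).extClass _ (zero_add 1) hn (by omega)) ?_
  exact congrArg (fun t => (Ext.mk₀ φ.τ₃).comp t (zero_add m))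
    (Ext.comp_assoc (hS.map_of_exact L).extClass (Ext.mapExactFunctor L x) (Ext.mk₀ b) hn (add_zero n) (by omega)).symm

end

omit [HasExt.{w} C] in
/-- Every object sits in a short exact sequence with injective middle term. -/
theorem exists_ses [EnoughInjectives C] (G : C) : ∃ S : ShortComplex C, S.ShortExact ∧ Injective S.X₂ ∧ S.X₁ = G := by
  refine ⟨ShortComplex.mk (Injective.ι G) (cokernel.π (Injective.ι G)) (cokernel.condition _), ?_,
    inferInstanceAs (Injective (Injective.under G)), rfl⟩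
  exact
    { exact := ShortComplex.exact_cokernel _
      mono_f := inferInstanceAs (Mono (Injective.ι G))
      epi_g := inferInstanceAs (Epi (cokernel.π (Injective.ι G))) }

/-- Uniqueness principle. -/
theorem uniq [EnoughInjectives C] (T : C ⥤ D) (P : C) (Q : D) [PreservesFiniteLimits T] [PreservesFiniteColimits T] [T.Additive]
    (α β : ∀ (G : C) (n : ℕ), Ext P G n → Ext Q (T.obj G) n)
    (hα : ∀ (S : ShortComplex C) (hS : S.ShortExact) (n : ℕ) (x : Ext P S.X₃ n),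
      α S.X₁ (n + 1) (x.comp hS.extClass rfl) = (α S.X₃ n x).comp (hS.map_of_exact T).extClass rfl)
    (hβ : ∀ (S : ShortComplex C) (hS : S.ShortExact) (n : ℕ) (x : Ext P S.X₃ n),
      β S.X₁ (n + 1) (x.comp hS.extClass rfl) = (β S.X₃ n x).comp (hS.map_of_exact T).extClass rfl)
    (h0 : ∀ (G : C) (x : P ⟶ G), α G 0 (Ext.mk₀ x) = β G 0 (Ext.mk₀ x))
    (G : C) (n : ℕ) (x : Ext P G n) : α G n x = β G n x := by
  induction n generalizing G with
  | zero =>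
    obtain ⟨y, rfl⟩ := (Ext.mk₀_bijective P G).2 x
    exact h0 G y
  | succ n ih =>
    obtain ⟨S, hS, hI, rfl⟩ := exists_ses G
    obtain ⟨y, rfl⟩ := Ext.covariant_sequence_exact₁ _ hS x (Ext.eq_zero_of_injective _) rfl
    rw [hα, hβ, ih]

section

variable [EnoughInjectives C] (L₁ : C ⥤ D) [L₁.Additive] [PreservesFiniteLimits L₁] [PreservesFiniteColimits L₁]
  (L₂ : D ⥤ E) [L₂.Additive] [PreservesFiniteLimits L₂] [PreservesFiniteColimits L₂]
  (L₃ : C ⥤ E) [L₃.Additive] [PreservesFiniteLimits L₃] [PreservesFiniteColimits L₃]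
  (θ : L₃ ⟶ L₁ ⋙ L₂)

theorem pm_pm_aux (P : C) (Q : D) (R : E) (a₁ : Q ⟶ L₁.obj P) (a₂ : R ⟶ L₂.obj Q) (a₃ : R ⟶ L₃.obj P)
    (ha : a₃ ≫ θ.app P = a₂ ≫ L₂.map a₁) (G : C) (n : ℕ) (x : Ext P G n) :
    pm L₂ a₂ (𝟙 (L₂.obj (L₁.obj G))) n (pm L₁ a₁ (𝟙 (L₁.obj G)) n x) = pm L₃ (H := L₂.obj (L₁.obj G)) a₃ (θ.app G) n x := by
  have := comp_preservesFiniteLimits L₁ L₂
  have := comp_preservesFiniteColimits L₁ L₂
  refine uniq (L₁ ⋙ L₂) P R (fun G n x => pm L₂ a₂ (𝟙 (L₂.obj (L₁.obj G))) n (pm L₁ a₁ (𝟙 (L₁.obj G)) n x))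
    (fun G n x => pm L₃ (H := L₂.obj (L₁.obj G)) a₃ (θ.app G) n x) ?_ ?_ ?_ G n x
  · intro S hS n x
    have e1 := pm_extClass L₁ hS (hS.map_of_exact L₁) (𝟙 (S.map L₁)) a₁ rfl x
    have e2 := pm_extClass L₂ (hS.map_of_exact L₁) (hS.map_of_exact (L₁ ⋙ L₂)) (𝟙 ((S.map L₁).map L₂)) a₂ rfl
      (pm L₁ a₁ (𝟙 (L₁.obj S.X₃)) n x)
    exact (congrArg (pm L₂ a₂ (𝟙 (L₂.obj (L₁.obj S.X₁))) (n + 1)) e1).trans e2
  · intro S hS n x
    exact pm_extClass L₃ hS (hS.map_of_exact (L₁ ⋙ L₂)) (S.mapNatTrans θ) a₃ rfl x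
  · intro G x
    rw [pm_mk₀, pm_mk₀, pm_mk₀]
    congr 1
    rw [Category.comp_id, Category.comp_id, Functor.map_comp, ← Category.assoc, ← ha, Category.assoc]
    congr 1
    exact (θ.naturality x).symm

/-- Composition. -/
theorem pm_pm {P : C} {Q : D} {R : E} (a₁ : Q ⟶ L₁.obj P) (a₂ : R ⟶ L₂.obj Q) (a₃ : R ⟶ L₃.obj P)
    (ha : a₃ ≫ θ.app P = a₂ ≫ L₂.map a₁) {G : C} {H : D} {K : E} (b₁ : L₁.obj G ⟶ H) (b₂ : L₂.obj H ⟶ K)
    (b₃ : L₃.obj G ⟶ K) (hb : θ.app G ≫ L₂.map b₁ ≫ b₂ = b₃) (n : ℕ) (x : Ext P G n) :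
    pm L₂ a₂ b₂ n (pm L₁ a₁ b₁ n x) = pm L₃ a₃ b₃ n x := by
  have h := congrArg (fun t => Ext.comp t (Ext.mk₀ (L₂.map b₁ ≫ b₂)) (add_zero n))
    (pm_pm_aux L₁ L₂ L₃ θ P Q R a₁ a₂ a₃ ha G n x)
  beta_reduce at h
  have e1 : pm L₁ a₁ b₁ n x = (pm L₁ a₁ (𝟙 (L₁.obj G)) n x).comp (Ext.mk₀ b₁) (add_zero n) := by
    rw [postcomp_pm, Category.id_comp]
  rw [e1, pm_postcomp, ← hb]
  rw [postcomp_pm, Category.id_comp] at h
  refine h.trans ?_
  exact postcomp_pm L₃ a₃ (θ.app G) (L₂.map b₁ ≫ b₂) n x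

end

end K74.ExtPM
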