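import Groth.Agent.FormalB.OpenMV
import Groth.Agent.Ega3B.LeraySheaf
import Groth.Agent.Coherent.K56.PMap
import Groth.Agent.RatRes.K74.ExtPM

/-!
# Cohomology of opens with restriction, pullback and Mayer-Vietoris (sealed definitions)

`HC F n U` is `H^n(U, F)` (a definition sealing `OpenMV.HO F n U`), with
* `mp φ : HC F n U →+ HC G n U`, functoriality in the sheaf;
* `pb f ψ h : HC G n U →+ HC H n V` for `f : X ⟶ Y`, `ψ : G ⟶ f_* H`, `V ≤ f⁻¹ U`; `rs h` restriction;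
* `δ`, the Mayer-Vietoris connecting map, and the exactness of the Mayer-Vietoris sequence.
-/

set_option autoImplicit false
universe u

open CategoryTheory CategoryTheory.Limits CategoryTheory.Abelian AlgebraicGeometry TopologicalSpace Opposite

noncomputable section

namespace K74.HC

open Groth.Agent.CohqA Groth.Agent.FormalB Groth.Agent.Ega3B K56.PMap

variable {X Y Z : TopCat.{u}}

/-- Named instance (keeps kernel terms small). -/
@[reducible] def abT (X : TopCat.{u}) : Abelian (CohTop.Ab X) := inferInstance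

attribute [local instance 10001] abT

/-- Named instance (keeps kernel terms small). -/
theorem extT (X : TopCat.{u}) : HasExt.{u} (CohTop.Ab X) := inferInstance

attribute [local instance 10001] extT

theorem enoughT (X : TopCat.{u}) : EnoughInjectives (CohTop.Ab X) := inferInstance

attribute [local instance 10001] enoughT

/-- The free abelian sheaf on an open. -/
abbrev ZZ (U : Opens X) : CohTop.Ab X := SheafH.freeSheaf (Opens.grothendieckTopology X) U

/-- The map of free sheaves for an inclusion. -/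
abbrev zm {U V : Opens X} (h : V ≤ U) : ZZ V ⟶ ZZ U := SheafH.freeSheafMap (Opens.grothendieckTopology X) (homOfLE h)

/-- The section of `f⁻¹ Z_U` over `V ≤ f⁻¹ U`. -/
def frSec (f : X ⟶ Y) {U : Opens Y} {V : Opens X} (h : V ≤ (Opens.map f).obj U) :
    ((CohPull.inv f).obj (ZZ U)).obj.obj (op V) :=
  ((CohPull.inv f).obj (ZZ U)).obj.map (homOfLE h).op
    (((CohPull.invPushAdj f).unit.app (ZZ U)).hom.app (op U) (SheafH.univSec (Opens.grothendieckTopology Y) U))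

/-- `Z_V ⟶ f⁻¹ Z_U` for `V ≤ f⁻¹ U`. -/
def fr (f : X ⟶ Y) {U : Opens Y} {V : Opens X} (h : V ≤ (Opens.map f).obj U) : ZZ V ⟶ (CohPull.inv f).obj (ZZ U) :=
  (SheafH.homEquiv V _).symm (frSec f h)

theorem homEquiv_fr (f : X ⟶ Y) {U : Opens Y} {V : Opens X} (h : V ≤ (Opens.map f).obj U) :
    SheafH.homEquiv V _ (fr f h) = frSec f h := Equiv.apply_symm_apply _ _

theorem zm_fr (f : X ⟶ Y) {U : Opens Y} {V V' : Opens X} (h : V ≤ (Opens.map f).obj U) (h' : V' ≤ V) :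
    zm h' ≫ fr f h = fr f (h'.trans h) := by
  apply (SheafH.homEquiv V' _).injective
  rw [SheafH.homEquiv_precomp, homEquiv_fr, homEquiv_fr]
  exact (ConcreteCategory.congr_hom (((CohPull.inv f).obj (ZZ U)).obj.map_comp (homOfLE h).op (homOfLE h').op) _).symm

theorem fr_zm (f : X ⟶ Y) {U U' : Opens Y} {V : Opens X} (h : V ≤ (Opens.map f).obj U') (h' : U' ≤ U) :
    fr f h ≫ (CohPull.inv f).map (zm h') = fr f (U := U) (h.trans ((Opens.map f).monotone h')) := by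
  apply (SheafH.homEquiv V _).injective
  rw [SheafH.homEquiv_comp, homEquiv_fr, homEquiv_fr]
  have h1 : ((CohPull.invPushAdj f).unit.app (ZZ U)).hom.app (op U')
      ((zm h').hom.app (op U') (SheafH.univSec (Opens.grothendieckTopology Y) U')) =
      ((CohPull.inv f).map (zm h')).hom.app (op ((Opens.map f).obj U'))
        (((CohPull.invPushAdj f).unit.app (ZZ U')).hom.app (op U') (SheafH.univSec (Opens.grothendieckTopology Y) U')) :=
    congr_arg (fun t => (t.hom.app (op U')) (SheafH.univSec (Opens.grothendieckTopology Y) U'))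
      (unit_natural f (zm h'))
  have h2 := SheafH.univSec_map (J := Opens.grothendieckTopology Y) (homOfLE h')
  have h3 := ConcreteCategory.congr_hom (((CohPull.invPushAdj f).unit.app (ZZ U)).hom.naturality (homOfLE h').op)
    (SheafH.univSec (Opens.grothendieckTopology Y) U)
  have h4 := ConcreteCategory.congr_hom (((CohPull.inv f).map (zm h')).hom.naturality (homOfLE h).op)
    (((CohPull.invPushAdj f).unit.app (ZZ U')).hom.app (op U') (SheafH.univSec (Opens.grothendieckTopology Y) U'))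
  refine Eq.trans h4 ?_
  refine Eq.trans (congrArg (((CohPull.inv f).obj (ZZ U)).obj.map (homOfLE h).op) (h1.symm.trans
    ((congrArg _ h2).trans h3))) ?_
  exact (ConcreteCategory.congr_hom (((CohPull.inv f).obj (ZZ U)).obj.map_comp
    (homOfLE ((Opens.map f).monotone h')).op (homOfLE h).op) _).symm

/-- The comparison `(f ≫ g)⁻¹ ⟶ g⁻¹ ⋙ f⁻¹`. -/
def θ (f : X ⟶ Y) (g : Y ⟶ Z) : CohPull.inv (f ≫ g) ⟶ CohPull.inv g ⋙ CohPull.inv f where
  app M := tr (f ≫ g) (H := (CohPull.inv f).obj ((CohPull.inv g).obj M)) ((CohPull.invPushAdj g).unit.app M ≫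
    (CohTop.push g).map ((CohPull.invPushAdj f).unit.app ((CohPull.inv g).obj M)))
  naturality M N a := by
    refine (tr_comp (f ≫ g) (H := (CohPull.inv f).obj ((CohPull.inv g).obj N)) a _).symm.trans ?_
    refine Eq.trans ?_ (tr_comp' (f ≫ g) (H := (CohPull.inv f).obj ((CohPull.inv g).obj M))
      (H' := (CohPull.inv f).obj ((CohPull.inv g).obj N)) _ ((CohPull.inv f).map ((CohPull.inv g).map a)))
    congr 1
    change a ≫ (CohPull.invPushAdj g).unit.app _ ≫ _ = (_ ≫ _) ≫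
        (CohTop.push g).map ((CohTop.push f).map ((CohPull.inv f).map ((CohPull.inv g).map a)))
    rw [← Category.assoc, unit_natural g, Category.assoc, Category.assoc, ← Functor.map_comp,
      ← Functor.map_comp, unit_natural f]

theorem tr_hom_app (f : X ⟶ Y) {M : CohTop.Ab Y} {N : CohTop.Ab X} (ψ : M ⟶ (CohTop.push f).obj N)
    {U : Opens Y} (s : M.obj.obj (op U)) :
    (tr f ψ).hom.app (op ((Opens.map f).obj U)) (((CohPull.invPushAdj f).unit.app M).hom.app (op U) s) =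
      ψ.hom.app (op U) s :=
  congr_arg (fun t => (t.hom.app (op U)) s) (unit_map_tr f ψ)

theorem homEquiv_fr_tr (f : X ⟶ Y) {U : Opens Y} {V : Opens X} (h : V ≤ (Opens.map f).obj U)
    {H : CohTop.Ab X} (ψ : ZZ U ⟶ (CohTop.push f).obj H) :
    SheafH.homEquiv V H (fr f h ≫ tr f ψ) = H.obj.map (homOfLE h).op
      (ψ.hom.app (op U) (SheafH.univSec (Opens.grothendieckTopology Y) U)) := by
  rw [SheafH.homEquiv_comp, homEquiv_fr]
  have h2 := ConcreteCategory.congr_hom ((tr f ψ).hom.naturality (homOfLE h).op)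
    (((CohPull.invPushAdj f).unit.app (ZZ U)).hom.app (op U) (SheafH.univSec (Opens.grothendieckTopology Y) U))
  refine Eq.trans h2 ?_
  exact congrArg (H.obj.map (homOfLE h).op) (tr_hom_app f ψ _)

theorem fr_θ (f : X ⟶ Y) (g : Y ⟶ Z) {U : Opens Z} {V : Opens Y} {W : Opens X} (h : V ≤ (Opens.map g).obj U)
    (h' : W ≤ (Opens.map f).obj V) (h'' : W ≤ (Opens.map (f ≫ g)).obj U) :
    fr (f ≫ g) h'' ≫ (θ f g).app (ZZ U) = fr f h' ≫ (CohPull.inv f).map (fr g h) := by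
  apply (SheafH.homEquiv W _).injective
  refine (homEquiv_fr_tr (f ≫ g) h'' _).trans ?_
  rw [SheafH.homEquiv_comp, homEquiv_fr]
  have e1 : (fr g h).hom.app (op V) (SheafH.univSec (Opens.grothendieckTopology Y) V) = frSec g h :=
    (SheafH.homEquiv_apply V _ (fr g h)).symm.trans (homEquiv_fr g h)
  have h1 : ((CohPull.invPushAdj f).unit.app ((CohPull.inv g).obj (ZZ U))).hom.app (op V)
      ((fr g h).hom.app (op V) (SheafH.univSec (Opens.grothendieckTopology Y) V)) =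
      ((CohPull.inv f).map (fr g h)).hom.app (op ((Opens.map f).obj V))
        (((CohPull.invPushAdj f).unit.app (ZZ V)).hom.app (op V) (SheafH.univSec (Opens.grothendieckTopology Y) V)) :=
    congr_arg (fun t => (t.hom.app (op V)) (SheafH.univSec (Opens.grothendieckTopology Y) V))
      (unit_natural f (fr g h))
  have h3 := ConcreteCategory.congr_hom
    (((CohPull.invPushAdj f).unit.app ((CohPull.inv g).obj (ZZ U))).hom.naturality (homOfLE h).op)
    (((CohPull.invPushAdj g).unit.app (ZZ U)).hom.app (op U) (SheafH.univSec (Opens.grothendieckTopology Z) U))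
  have h4 := ConcreteCategory.congr_hom (((CohPull.inv f).map (fr g h)).hom.naturality (homOfLE h').op)
    (((CohPull.invPushAdj f).unit.app (ZZ V)).hom.app (op V) (SheafH.univSec (Opens.grothendieckTopology Y) V))
  refine Eq.symm (Eq.trans h4 ?_)
  refine Eq.trans (congrArg (((CohPull.inv f).obj ((CohPull.inv g).obj (ZZ U))).obj.map (homOfLE h').op) (h1.symm.trans
    ((congrArg _ e1).trans h3))) ?_
  exact (ConcreteCategory.congr_hom (((CohPull.inv f).obj ((CohPull.inv g).obj (ZZ U))).obj.map_comp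
    (homOfLE ((Opens.map f).monotone h)).op (homOfLE h').op) _).symm

theorem θ_tr (f : X ⟶ Y) (g : Y ⟶ Z) {M : CohTop.Ab Z} {N : CohTop.Ab Y} {P : CohTop.Ab X}
    (ψ : M ⟶ (CohTop.push g).obj N) (φ : N ⟶ (CohTop.push f).obj P) :
    (θ f g).app M ≫ (CohPull.inv f).map (tr g ψ) ≫ tr f φ = tr (f ≫ g) (H := P) (ψ ≫ (CohTop.push g).map φ) := by
  rw [← tr_comp]
  refine (tr_comp' (f ≫ g) (H := (CohPull.inv f).obj ((CohPull.inv g).obj M)) (H' := P) _ _).symm.trans ?_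
  congr 1
  change (_ ≫ _) ≫ (CohTop.push g).map ((CohTop.push f).map (tr f (tr g ψ ≫ φ))) = _
  rw [Category.assoc, ← Functor.map_comp, unit_map_tr, Functor.map_comp, ← Category.assoc, unit_map_tr]
  rfl

/-- `H^n(U, F)`, sealed. -/
def HC (F : CohTop.Ab X) (n : ℕ) (U : Opens X) : Type u := Ext (ZZ U) F n

@[reducible] def addCommGroupHC (F : CohTop.Ab X) (n : ℕ) (U : Opens X) : AddCommGroup (HC F n U) :=
  (inferInstance : AddCommGroup (Ext (ZZ U) F n))

attribute [instance] addCommGroupHC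

/-- Functoriality in the sheaf. -/
def mp {F G : CohTop.Ab X} (φ : F ⟶ G) (n : ℕ) (U : Opens X) : HC F n U →+ HC G n U :=
  (Ext.mk₀ φ).postcomp (ZZ U) (add_zero n)

theorem mp_apply {F G : CohTop.Ab X} (φ : F ⟶ G) (n : ℕ) (U : Opens X) (x : HC F n U) :
    mp φ n U x = Ext.comp (show Ext (ZZ U) F n from x) (Ext.mk₀ φ) (add_zero n) := rfl

/-- Restriction. -/
def rs (F : CohTop.Ab X) (n : ℕ) {U V : Opens X} (h : V ≤ U) : HC F n U →+ HC F n V :=
  (Ext.mk₀ (zm h)).precomp F (zero_add n)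

theorem rs_apply (F : CohTop.Ab X) (n : ℕ) {U V : Opens X} (h : V ≤ U) (x : HC F n U) :
    rs F n h x = (Ext.mk₀ (zm h)).comp (show Ext (ZZ U) F n from x) (zero_add n) := rfl

/-- Pullback. -/
def pb (f : X ⟶ Y) {G : CohTop.Ab Y} {H : CohTop.Ab X} (ψ : G ⟶ (CohTop.push f).obj H) (n : ℕ) {U : Opens Y}
    {V : Opens X} (h : V ≤ (Opens.map f).obj U) : HC G n U →+ HC H n V :=
  ExtPM.pm (CohPull.inv f) (fr f h) (tr f ψ) n

theorem pb_eq (f : X ⟶ Y) {G : CohTop.Ab Y} {H : CohTop.Ab X} (ψ : G ⟶ (CohTop.push f).obj H) (n : ℕ) {U : Opens Y}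
    {V : Opens X} (h : V ≤ (Opens.map f).obj U) (x : HC G n U) :
    pb f ψ n h x = ExtPM.pm (CohPull.inv f) (fr f h) (tr f ψ) n x := rfl

theorem mp_id (F : CohTop.Ab X) (n : ℕ) (U : Opens X) (x : HC F n U) : mp (𝟙 F) n U x = x := Ext.comp_mk₀_id x

theorem mp_comp {F G H : CohTop.Ab X} (φ : F ⟶ G) (ψ : G ⟶ H) (n : ℕ) (U : Opens X) (x : HC F n U) :
    mp (φ ≫ ψ) n U x = mp ψ n U (mp φ n U x) := by
  rw [mp_apply, mp_apply, mp_apply, ← Ext.mk₀_comp_mk₀, Ext.comp_assoc_of_third_deg_zero]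

theorem rs_mp {F G : CohTop.Ab X} (φ : F ⟶ G) (n : ℕ) {U V : Opens X} (h : V ≤ U) (x : HC F n U) :
    rs G n h (mp φ n U x) = mp φ n V (rs F n h x) := by
  rw [rs_apply, mp_apply, mp_apply, rs_apply]
  exact (Ext.comp_assoc_of_third_deg_zero _ _ _ _).symm

theorem rs_refl (F : CohTop.Ab X) (n : ℕ) (U : Opens X) (x : HC F n U) : rs F n (le_refl U) x = x := by
  rw [rs_apply]
  have h : zm (le_refl U) = 𝟙 (ZZ U) := SheafH.freeSheafMap_id U
  rw [h]
  exact Ext.mk₀_id_comp _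

theorem rs_rs (F : CohTop.Ab X) (n : ℕ) {U V W : Opens X} (h : V ≤ U) (h' : W ≤ V) (x : HC F n U) :
    rs F n h' (rs F n h x) = rs F n (h'.trans h) x := by
  rw [rs_apply, rs_apply, rs_apply]
  have h : zm (h'.trans h) = zm h' ≫ zm h := SheafH.freeSheafMap_comp _ _
  rw [h]
  exact Ext.mk₀_comp_mk₀_assoc _ _ _ 

variable (f : X ⟶ Y) {G : CohTop.Ab Y} {H : CohTop.Ab X} (ψ : G ⟶ (CohTop.push f).obj H)

theorem rs_pb (n : ℕ) {U : Opens Y} {V V' : Opens X} (h : V ≤ (Opens.map f).obj U) (h' : V' ≤ V) (x : HC G n U) :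
    rs H n h' (pb f ψ n h x) = pb f ψ n (h'.trans h) x := by
  rw [pb_eq, pb_eq, ← zm_fr f h h']
  exact ExtPM.precomp_pm (CohPull.inv f) (fr f h) (tr f ψ) (zm h') n x

theorem pb_rs (n : ℕ) {U U' : Opens Y} {V : Opens X} (h : V ≤ (Opens.map f).obj U') (h' : U' ≤ U) (x : HC G n U) :
    pb f ψ n h (rs G n h' x) = pb f ψ n (U := U) (h.trans ((Opens.map f).monotone h')) x := by
  rw [pb_eq, pb_eq, ← fr_zm f h h']
  exact ExtPM.pm_precomp (CohPull.inv f) (fr f h) (tr f ψ) (zm h') n x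

theorem pb_mp_left {G' : CohTop.Ab Y} (a : G' ⟶ G) (n : ℕ) {U : Opens Y} {V : Opens X}
    (h : V ≤ (Opens.map f).obj U) (x : HC G' n U) : pb f (a ≫ ψ) n h x = pb f ψ n h (mp a n U x) := by
  rw [pb_eq, pb_eq, tr_comp]
  exact (ExtPM.pm_postcomp (CohPull.inv f) (fr f h) (tr f ψ) a n x).symm

theorem pb_mp_right {H' : CohTop.Ab X} (b : H ⟶ H') (n : ℕ) {U : Opens Y} {V : Opens X}
    (h : V ≤ (Opens.map f).obj U) (x : HC G n U) :
    pb f (ψ ≫ (CohTop.push f).map b) n h x = mp b n V (pb f ψ n h x) := by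
  rw [pb_eq, tr_comp']
  exact (ExtPM.postcomp_pm (CohPull.inv f) (fr f h) (tr f ψ) b n x).symm

/-- Composition. -/
theorem pb_pb (g : Y ⟶ Z) {M : CohTop.Ab Z} (χ : M ⟶ (CohTop.push g).obj G) (n : ℕ)
    {U : Opens Z} {V : Opens Y} {W : Opens X} (h : V ≤ (Opens.map g).obj U)
    (h' : W ≤ (Opens.map f).obj V) (h'' : W ≤ (Opens.map (f ≫ g)).obj U) (x : HC M n U) :
    pb f ψ n h' (pb g χ n h x) = pb (f ≫ g) (H := H) (χ ≫ (CohTop.push g).map ψ) n h'' x :=
  ExtPM.pm_pm (CohPull.inv g) (CohPull.inv f) (CohPull.inv (f ≫ g)) (θ f g) (fr g h) (fr f h') (fr (f ≫ g) h'')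
    (fr_θ f g h h' h'') (tr g χ) (tr f ψ) (tr (f ≫ g) (H := H) (χ ≫ (CohTop.push g).map ψ)) (θ_tr f g χ ψ) n x

/-- Degree zero. -/
def H0 (F : CohTop.Ab X) (U : Opens X) : HC F 0 U ≃+ F.obj.obj (op U) := SheafH.H0 F U

theorem H0_pb {U : Opens Y} {V : Opens X} (h : V ≤ (Opens.map f).obj U) (x : HC G 0 U) :
    H0 H V (pb f ψ 0 h x) = H.obj.map (homOfLE h).op (ψ.hom.app (op U) (H0 G U x)) := by
  obtain ⟨g, rfl⟩ := (Ext.mk₀_bijective (ZZ U) G).2 x
  rw [pb_eq, ExtPM.pm_mk₀]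
  refine (SheafH.H0_mk₀ H V _).trans ?_
  refine Eq.trans ?_ (congrArg (fun t => H.obj.map (homOfLE h).op (ψ.hom.app (op U) t)) (SheafH.H0_mk₀ G U g).symm)
  rw [← tr_comp, homEquiv_fr_tr, SheafH.homEquiv_apply]
  rfl

theorem H0_rs (F : CohTop.Ab X) {U V : Opens X} (h : V ≤ U) (x : HC F 0 U) :
    H0 F V (rs F 0 h x) = F.obj.map (homOfLE h).op (H0 F U x) := SheafH.H0_res F (homOfLE h) x

theorem H0_mp {F G : CohTop.Ab X} (φ : F ⟶ G) (U : Opens X) (x : HC F 0 U) :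
    H0 G U (mp φ 0 U x) = φ.hom.app (op U) (H0 F U x) := SheafH.H0_map φ U x

/-! ### Mayer-Vietoris -/

section MV

variable {A B C W : Opens X} (h₄ : W = A ⊔ B) (h₁ : C = A ⊓ B)

include h₁ in
theorem leCA : C ≤ A := h₁ ▸ inf_le_left
include h₁ in
theorem leCB : C ≤ B := h₁ ▸ inf_le_right
include h₄ in
theorem leAW : A ≤ W := h₄ ▸ le_sup_left
include h₄ in
theorem leBW : B ≤ W := h₄ ▸ le_sup_right

/-- The Mayer-Vietoris short complex. -/
def mvS : ShortComplex (CohTop.Ab X) :=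
  ShortComplex.mk (biprod.lift (zm (leCA h₁)) (-(zm (leCB h₁)))) (biprod.desc (zm (leAW h₄)) (zm (leBW h₄)))
    (OpenMV.sq h₄ h₁).shortComplex.zero

theorem mvS_shortExact : (mvS h₄ h₁).ShortExact := (OpenMV.sq h₄ h₁).shortComplex_shortExact

/-- The Mayer-Vietoris connecting map. -/
def δ (F : CohTop.Ab X) (n : ℕ) : HC F n C →+ HC F (n + 1) W :=
  (mvS_shortExact h₄ h₁).extClass.precomp F (by rw [add_comm])

theorem δ_apply (F : CohTop.Ab X) (n : ℕ) (z : HC F n C) :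
    δ h₄ h₁ F n z = Ext.comp (mvS_shortExact h₄ h₁).extClass (show Ext (ZZ C) F n from z) (add_comm 1 n) := rfl

theorem δ_rs_sub (F : CohTop.Ab X) (n : ℕ) (a : HC F n A) (b : HC F n B) :
    δ h₄ h₁ F n (rs F n (leCA h₁) a - rs F n (leCB h₁) b) = 0 :=
  OpenMV.abs₁ (zm (leCA h₁)) (zm (leCB h₁)) (zm (leAW h₄)) (zm (leBW h₄)) (OpenMV.sq h₄ h₁).shortComplex.zero
    (mvS_shortExact h₄ h₁) F n (add_comm 1 n) a b

theorem exists_of_δ_eq_zero (F : CohTop.Ab X) (n : ℕ) (z : HC F n C) (hz : δ h₄ h₁ F n z = 0) :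
    ∃ (a : HC F n A) (b : HC F n B), rs F n (leCA h₁) a - rs F n (leCB h₁) b = z :=
  OpenMV.abs₂ (zm (leCA h₁)) (zm (leCB h₁)) (zm (leAW h₄)) (zm (leBW h₄)) (OpenMV.sq h₄ h₁).shortComplex.zero
    (mvS_shortExact h₄ h₁) F n (add_comm 1 n) z hz

theorem exists_of_rs_eq_zero (F : CohTop.Ab X) (n : ℕ) (x : HC F (n + 1) W)
    (h₂ : rs F (n + 1) (leAW h₄) x = 0) (h₃ : rs F (n + 1) (leBW h₄) x = 0) : ∃ z : HC F n C, δ h₄ h₁ F n z = x :=
  OpenMV.abs₃ (zm (leCA h₁)) (zm (leCB h₁)) (zm (leAW h₄)) (zm (leBW h₄)) (OpenMV.sq h₄ h₁).shortComplex.zero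
    (mvS_shortExact h₄ h₁) F n (add_comm 1 n) x h₂ h₃

include h₁ in
theorem exists_of_rs_eq (F : CohTop.Ab X) (n : ℕ) (a : HC F n A) (b : HC F n B)
    (h : rs F n (leCA h₁) a = rs F n (leCB h₁) b) :
    ∃ x : HC F n W, rs F n (leAW h₄) x = a ∧ rs F n (leBW h₄) x = b :=
  OpenMV.abs₄ (zm (leCA h₁)) (zm (leCB h₁)) (zm (leAW h₄)) (zm (leBW h₄)) (OpenMV.sq h₄ h₁).shortComplex.zero
    (mvS_shortExact h₄ h₁) F n a b h

theorem mp_δ {F G : CohTop.Ab X} (φ : F ⟶ G) (n : ℕ) (z : HC F n C) :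
    mp φ (n + 1) W (δ h₄ h₁ F n z) = δ h₄ h₁ G n (mp φ n C z) := by
  rw [δ_apply, δ_apply, mp_apply, mp_apply]
  exact Ext.comp_assoc _ _ _ _ (add_zero n) (by omega)

end MV

section MVpb

variable {A B C W : Opens Y} (h₄ : W = A ⊔ B) (h₁ : C = A ⊓ B)
  {A' B' C' W' : Opens X} (h₄' : W' = A' ⊔ B') (h₁' : C' = A' ⊓ B')
  (hA : A' ≤ (Opens.map f).obj A) (hB : B' ≤ (Opens.map f).obj B) (hC : C' ≤ (Opens.map f).obj C)
  (hW : W' ≤ (Opens.map f).obj W)

/-- The middle map. -/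
def mvMid : (ZZ A' ⊞ ZZ B') ⟶ (CohPull.inv f).obj (ZZ A ⊞ ZZ B) :=
  biprod.desc (fr f hA ≫ (CohPull.inv f).map (biprod.inl : ZZ A ⟶ ZZ A ⊞ ZZ B))
    (fr f hB ≫ (CohPull.inv f).map (biprod.inr : ZZ B ⟶ ZZ A ⊞ ZZ B))

theorem mv_comm₁₂ : fr f hC ≫ (CohPull.inv f).map (biprod.lift (zm (leCA h₁)) (-(zm (leCB h₁)))) =
      biprod.lift (zm (leCA h₁')) (-(zm (leCB h₁'))) ≫ mvMid f hA hB := by
  have e : biprod.lift (zm (leCA h₁)) (-(zm (leCB h₁))) = zm (leCA h₁) ≫ biprod.inl - zm (leCB h₁) ≫ biprod.inr := by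
    apply biprod.hom_ext <;> simp
  rw [e, Functor.map_sub, Functor.map_comp, Functor.map_comp, Preadditive.comp_sub, ← Category.assoc,
    ← Category.assoc, fr_zm, fr_zm, mvMid, biprod.lift_desc, Preadditive.neg_comp, ← Category.assoc, ← Category.assoc,
    zm_fr, zm_fr, sub_eq_add_neg]

theorem mv_comm₂₃ : mvMid f hA hB ≫ (CohPull.inv f).map (biprod.desc (zm (leAW h₄)) (zm (leBW h₄))) =
      biprod.desc (zm (leAW h₄')) (zm (leBW h₄')) ≫ fr f hW := by
  rw [mvMid]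
  apply biprod.hom_ext'
  · rw [biprod.inl_desc_assoc, biprod.inl_desc_assoc, Category.assoc, ← Functor.map_comp, biprod.inl_desc, fr_zm, zm_fr]
  · rw [biprod.inr_desc_assoc, biprod.inr_desc_assoc, Category.assoc, ← Functor.map_comp, biprod.inr_desc, fr_zm, zm_fr]

/-- The map of Mayer-Vietoris short complexes. -/
def mvHom : mvS h₄' h₁' ⟶ (mvS h₄ h₁).map (CohPull.inv f) where
  τ₁ := fr f hC
  τ₂ := mvMid f hA hB
  τ₃ := fr f hW
  comm₁₂ := mv_comm₁₂ f h₁ h₁' hA hB hC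
  comm₂₃ := mv_comm₂₃ f h₄ h₄' hA hB hW

include hA hB in
theorem pb_δ (n : ℕ) (z : HC G n C) :
    pb f ψ (n + 1) hW (δ h₄ h₁ G n z) = δ h₄' h₁' H n (pb f ψ n hC z) :=
  (ExtPM.extClass_pm (CohPull.inv f) (mvS_shortExact h₄ h₁) (mvS_shortExact h₄' h₁')
    (mvHom f h₄ h₁ h₄' h₁' hA hB hC hW) (tr f ψ) (add_comm 1 n) z).symm

end MVpb

end K74.HC
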