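import Groth.Agent.RatRes.K74.HC
import Groth.Agent.An.H476.SecBij
import Groth.Agent.CohtopA.Flasque

/-!
# Pullback along open embeddings is bijective

`pb_bijective_of_isOpenEmbedding`: for an open embedding `f : X ⟶ Y`, `ψ : G ⟶ f_* H` with isomorphic transpose, and
`U` contained in the range of `f`, the map `H^n(U, G) → H^n(f⁻¹ U, H)` is bijective.
-/

set_option autoImplicit false
universe u

open CategoryTheory CategoryTheory.Limits CategoryTheory.Abelian AlgebraicGeometry TopologicalSpace Opposite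

noncomputable section

namespace K74.HCOpen

open K74.HC K56.PMap Groth.Agent.CohqA

variable {X Y : TopCat.{u}}

attribute [local instance 10001] abT extT enoughT

/-- Connecting map in the sheaf variable. -/
def δs {S : ShortComplex (CohTop.Ab X)} (hS : S.ShortExact) (n : ℕ) (U : Opens X) : HC S.X₃ n U →+ HC S.X₁ (n + 1) U :=
  hS.extClass.postcomp (ZZ U) rfl

theorem δs_apply {S : ShortComplex (CohTop.Ab X)} (hS : S.ShortExact) (n : ℕ) (U : Opens X) (x : HC S.X₃ n U) :
    δs hS n U x = Ext.comp (show Ext (ZZ U) S.X₃ n from x) hS.extClass rfl := rfl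

theorem exact₁ {S : ShortComplex (CohTop.Ab X)} (hS : S.ShortExact) (n : ℕ) (U : Opens X) (x : HC S.X₁ (n + 1) U)
    (hx : mp S.f (n + 1) U x = 0) : ∃ y : HC S.X₃ n U, δs hS n U y = x :=
  Ext.covariant_sequence_exact₁ _ hS x hx rfl

theorem exact₂ {S : ShortComplex (CohTop.Ab X)} (hS : S.ShortExact) (n : ℕ) (U : Opens X) (x : HC S.X₂ n U)
    (hx : mp S.g n U x = 0) : ∃ y : HC S.X₁ n U, mp S.f n U y = x :=
  Ext.covariant_sequence_exact₂ _ hS x hx

theorem exact₃ {S : ShortComplex (CohTop.Ab X)} (hS : S.ShortExact) (n : ℕ) (U : Opens X) (x : HC S.X₃ n U)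
    (hx : δs hS n U x = 0) : ∃ y : HC S.X₂ n U, mp S.g n U y = x :=
  Ext.covariant_sequence_exact₃ _ hS x rfl hx

theorem δs_mp {S : ShortComplex (CohTop.Ab X)} (hS : S.ShortExact) (n : ℕ) (U : Opens X) (x : HC S.X₂ n U) :
    δs hS n U (mp S.g n U x) = 0 := by
  rw [δs_apply, mp_apply]
  refine (Ext.comp_assoc_of_second_deg_zero _ _ _ _).trans ?_
  rw [hS.comp_extClass, Ext.comp_zero]
  rfl

theorem pb_δs (f : X ⟶ Y) {S : ShortComplex (CohTop.Ab Y)} {S' : ShortComplex (CohTop.Ab X)} (hS : S.ShortExact)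
    (hS' : S'.ShortExact) (φ : S.map (CohPull.inv f) ⟶ S') (ψ₁ : S.X₁ ⟶ (CohTop.push f).obj S'.X₁)
    (ψ₃ : S.X₃ ⟶ (CohTop.push f).obj S'.X₃) (h₁ : tr f ψ₁ = φ.τ₁) (h₃ : tr f ψ₃ = φ.τ₃) (n : ℕ)
    {U : Opens Y} {V : Opens X} (h : V ≤ (Opens.map f).obj U) (x : HC S.X₃ n U) :
    pb f ψ₁ (n + 1) h (δs hS n U x) = δs hS' n V (pb f ψ₃ n h x) := by
  rw [pb_eq, pb_eq, h₁, h₃]
  exact ExtPM.pm_extClass (CohPull.inv f) hS hS' φ (fr f h) rfl x

theorem subsingleton_of_isFlasque (F : CohTop.Ab X) [TopCat.Sheaf.IsFlasque F] (n : ℕ) (U : Opens X) :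
    Subsingleton (HC F (n + 1) U) :=
  subsingleton_of_forall_eq 0 fun x => Groth.Agent.CohtopA.Flasque.ext_succ_eq_zero_of_isFlasque F U n x

theorem mp_bijective {F G : CohTop.Ab X} (φ : F ⟶ G) [IsIso φ] (n : ℕ) (U : Opens X) : Function.Bijective (mp φ n U) := by
  refine Function.bijective_iff_has_inverse.mpr ⟨mp (inv φ) n U, fun x => ?_, fun x => ?_⟩
  · rw [← mp_comp, IsIso.hom_inv_id, mp_id]
  · rw [← mp_comp, IsIso.inv_hom_id, mp_id]

/-- The unit. -/
abbrev un (f : X ⟶ Y) (G : CohTop.Ab Y) : G ⟶ (CohTop.push f).obj ((CohPull.inv f).obj G) := (CohPull.invPushAdj f).unit.app G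

theorem tr_un (f : X ⟶ Y) (G : CohTop.Ab Y) : tr f (un f G) = 𝟙 _ := by
  have h : (CohPull.invPushAdj f).homEquiv _ _ (𝟙 ((CohPull.inv f).obj G)) = un f G :=
    ((CohPull.invPushAdj f).homEquiv_unit _ _ _).trans (by
      rw [CategoryTheory.Functor.map_id]; exact Category.comp_id _)
  exact (congrArg ((CohPull.invPushAdj f).homEquiv _ _).symm h).symm.trans (Equiv.symm_apply_apply _ _)

theorem pb_eq_mp_un (f : X ⟶ Y) {G : CohTop.Ab Y} {H : CohTop.Ab X} (ψ : G ⟶ (CohTop.push f).obj H) (n : ℕ)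
    {U : Opens Y} {V : Opens X} (h : V ≤ (Opens.map f).obj U) (x : HC G n U) :
    pb f ψ n h x = mp (tr f ψ) n V (pb f (un f G) n h x) := by
  rw [← pb_mp_right, unit_map_tr]

theorem un_app_bijective (f : X ⟶ Y) (hf : Topology.IsOpenEmbedding f) (G : CohTop.Ab Y) (U : Opens Y)
    (hU : (U : Set Y) ⊆ Set.range f) :
    Function.Bijective ((un f G).hom.app (op U)).hom := by
  have h := Groth.Agent.An.H476.SecBij.pbW_bijective f G (V := U) (W := (Opens.map f).obj U) le_rfl
    (fun O _ => hf.isOpenMap _ O.isOpen) (by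
      rintro y hy
      obtain ⟨x, rfl⟩ := hU hy
      have e : (((Opens.map f).obj U : Opens X) : Set X) ∩ f ⁻¹' {f x} = {x} := by
        ext z
        constructor
        · rintro ⟨_, hz⟩
          exact hf.injective hz
        · rintro rfl
          exact ⟨hy, rfl⟩
      rw [e]
      exact isConnected_singleton)
  have e : Groth.Agent.An.H476.SecBij.pbW f G (V := U) (W := (Opens.map f).obj U) le_rfl =
      ((un f G).hom.app (op U)).hom := by
    ext s
    rw [Groth.Agent.An.H476.SecBij.pbW_apply]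
    have h2 : (homOfLE (le_refl ((Opens.map f).obj U))).op = 𝟙 (op ((Opens.map f).obj U)) := rfl
    exact ConcreteCategory.congr_hom (((CohTop.pull f).obj G).obj.map_id (op ((Opens.map f).obj U))) _
  rw [← e]
  exact h

/-- Bijectivity for the unit. -/
theorem pb_un_bijective (f : X ⟶ Y) (hf : Topology.IsOpenEmbedding f) (n : ℕ) : ∀ (G : CohTop.Ab Y) (U : Opens Y)
    (_ : (U : Set Y) ⊆ Set.range f), Function.Bijective (pb f (un f G) n (le_refl ((Opens.map f).obj U))) := by
  induction n with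
  | zero =>
    intro G U hU
    have h1 : (H0 ((CohPull.inv f).obj G) ((Opens.map f).obj U)) ∘ pb f (un f G) 0 (le_refl ((Opens.map f).obj U)) =
        ((un f G).hom.app (op U)).hom ∘ H0 G U := by
      funext x
      refine (H0_pb f (un f G) (le_refl ((Opens.map f).obj U)) x).trans ?_
      exact ConcreteCategory.congr_hom (((CohPull.inv f).obj G).obj.map_id (op ((Opens.map f).obj U))) _
    refine (Function.Bijective.of_comp_iff' (H0 _ _).bijective _).1 ?_
    rw [h1]
    exact (un_app_bijective f hf G U hU).comp (H0 G U).bijective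
  | succ n ih =>
    intro G U hU
    obtain ⟨S, hS, hI, rfl⟩ := ExtPM.exists_ses G
    let V := (Opens.map f).obj U
    have hS' := hS.map_of_exact (CohPull.inv f)
    have hfl : TopCat.Sheaf.IsFlasque S.X₂ := Groth.Agent.CohtopA.Flasque.isFlasque_of_injective _
    have hfl' : TopCat.Sheaf.IsFlasque ((CohPull.inv f).obj S.X₂) := Groth.Agent.An.H476.SecBij.isFlasque_pull f S.X₂ hf
    have s1 : Subsingleton (HC S.X₂ (n + 1) U) := subsingleton_of_isFlasque S.X₂ n U
    have s2 : Subsingleton (HC ((CohPull.inv f).obj S.X₂) (n + 1) V) := subsingleton_of_isFlasque _ n V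
    have hδ : ∀ x : HC S.X₃ n U, pb f (un f S.X₁) (n + 1) (le_refl V) (δs hS n U x) =
        δs hS' n V (pb f (un f S.X₃) n (le_refl V) x) := fun x =>
      pb_δs f hS hS' (𝟙 _) (un f S.X₁) (un f S.X₃) (tr_un f S.X₁) (tr_un f S.X₃) n (le_refl V) x
    have hmp : ∀ x : HC S.X₂ n U, pb f (un f S.X₃) n (le_refl V) (mp S.g n U x) =
        mp ((CohPull.inv f).map S.g) n V (pb f (un f S.X₂) n (le_refl V) x) := fun x => by
      rw [← pb_mp_left, ← pb_mp_right]
      congr 1
      rw [unit_natural]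
    constructor
    · rw [injective_iff_map_eq_zero]
      intro x hx
      obtain ⟨y, rfl⟩ := exact₁ hS n U x (Subsingleton.elim _ _)
      rw [hδ] at hx
      obtain ⟨z, hz⟩ := exact₃ hS' n V _ hx
      obtain ⟨w, rfl⟩ := (ih S.X₂ U hU).2 z
      have h2 : mp S.g n U w = y := (ih S.X₃ U hU).1 ((hmp w).trans hz)
      rw [← h2, δs_mp]
    · intro x
      obtain ⟨y, rfl⟩ := exact₁ hS' n V x (Subsingleton.elim (α := HC ((CohPull.inv f).obj S.X₂) (n + 1) V) _ _)
      obtain ⟨z, rfl⟩ := (ih S.X₃ U hU).2 y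
      exact ⟨δs hS n U z, hδ z⟩

/-- Pullback along an open embedding is bijective. -/
theorem pb_bijective_of_isOpenEmbedding (f : X ⟶ Y) (hf : Topology.IsOpenEmbedding f) {G : CohTop.Ab Y}
    {H : CohTop.Ab X} (ψ : G ⟶ (CohTop.push f).obj H) [IsIso (tr f ψ)] (n : ℕ) (U : Opens Y)
    (hU : (U : Set Y) ⊆ Set.range f) : Function.Bijective (pb f ψ n (le_refl ((Opens.map f).obj U))) := by
  have h : (pb f ψ n (le_refl ((Opens.map f).obj U)) : HC G n U → _) =
      (mp (tr f ψ) n _) ∘ pb f (un f G) n (le_refl ((Opens.map f).obj U)) := by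
    funext x
    exact pb_eq_mp_un f ψ n _ x
  rw [h]
  exact (mp_bijective (tr f ψ) n _).comp (pb_un_bijective f hf n G U hU)

/-- The transpose is an isomorphism if `ψ` is bijective on the opens contained in the range. -/
theorem isIso_tr (f : X ⟶ Y) (hf : Topology.IsOpenEmbedding f) {G : CohTop.Ab Y}
    {H : CohTop.Ab X} (ψ : G ⟶ (CohTop.push f).obj H)
    (hψ : ∀ U : Opens Y, (U : Set Y) ⊆ Set.range f → Function.Bijective (ψ.hom.app (op U)).hom) : IsIso (tr f ψ) := by
  have key : ∀ W : Opens X, IsIso ((tr f ψ).hom.app (op W)) := by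
    intro W
    let U : Opens Y := hf.isOpenMap.functor.obj W
    have hU : (U : Set Y) ⊆ Set.range f := by
      rintro _ ⟨x, -, rfl⟩
      exact ⟨x, rfl⟩
    have hW : (Opens.map f).obj U = W := by
      ext x
      constructor
      · rintro ⟨y, hy, hyx⟩
        rw [← hf.injective hyx]
        exact hy
      · intro hx
        exact ⟨x, hx, rfl⟩
    have h1 : ((tr f ψ).hom.app (op ((Opens.map f).obj U))).hom ∘ ((un f G).hom.app (op U)).hom =
        (ψ.hom.app (op U)).hom := by
      funext s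
      exact tr_hom_app f ψ s
    have h0 := hψ U hU
    have h2 : Function.Bijective ((tr f ψ).hom.app (op ((Opens.map f).obj U))).hom := by
      refine (Function.Bijective.of_comp_iff _ (un_app_bijective f hf G U hU)).1 ?_
      exact h1 ▸ h0
    have h3 : IsIso ((tr f ψ).hom.app (op ((Opens.map f).obj U))) := (ConcreteCategory.isIso_iff_bijective _).2 h2
    rw [hW] at h3
    exact h3
  have h2 : IsIso (tr f ψ).hom := by
    rw [NatTrans.isIso_iff_isIso_app]
    intro W
    exact key W.unop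
  exact (ObjectProperty.isIso_hom_iff (tr f ψ)).1 h2

end K74.HCOpen
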