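import Groth.Agent.RatRes.K74.Compare
import Groth.Agent.BSB.K946.RZ
import Groth.Agent.Fga.UnitRestrict

/-!
# Vanishing of higher direct images of the structure sheaf from the comparison
-/

set_option autoImplicit false
universe u

open CategoryTheory CategoryTheory.Limits AlgebraicGeometry TopologicalSpace Opposite

namespace K74.Main

open Groth.Agent.CurvesC.Modif K97.ModTools K74.SC K74.Compare K74.HC

/-- `H^(q+1)(f⁻¹ V, O_X) = 0` for a modification `f : X ⟶ Y` and `V` affine. -/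
theorem subsingleton_of_compare {X Y : Scheme.{u}} [IsIntegral Y]
    (hX : ∀ (q : ℕ) (U : X.Opens), IsCompact (U : Set X) → Inj X q U)
    (hY : ∀ (q : ℕ) (U : Y.Opens), IsCompact (U : Set Y) → Surj Y q U) (f : X ⟶ Y) (hf : IsModif f)
    (V : Y.Opens) (hV : IsAffineOpen V) (q : ℕ) : Subsingleton (C X (q + 1) (f ⁻¹ᵁ V)) := by
  have := hf.proper
  refine subsingleton_of_forall_eq 0 fun α => ?_
  obtain ⟨X', r, hr, H⟩ := hY (q + 1) V hV.isCompact f hf
  obtain ⟨β, hβ⟩ := H α
  have h0 := subsingleton_of_isAffineOpen Y q V hV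
  have hβ0 : β = 0 := Subsingleton.elim _ _
  refine hX (q + 1) (f ⁻¹ᵁ V) (QuasiCompact.isCompact_preimage (f := f) _ V.2 hV.isCompact) r hr α (hβ.trans ?_)
  rw [hβ0]
  exact map_zero _

theorem isZero_Rpush {X Y : Scheme.{u}} [IsIntegral Y]
    (hX : ∀ (q : ℕ) (U : X.Opens), IsCompact (U : Set X) → Inj X q U)
    (hY : ∀ (q : ℕ) (U : Y.Opens), IsCompact (U : Set Y) → Surj Y q U) (f : X ⟶ Y) (hf : IsModif f)
    [HasInjectiveResolutions X.Modules] (p : ℕ) (hp : 0 < p) :
    IsZero ((Coh.Rpush f p).obj (Coh.structureModule X)) := by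
  have := hf.proper
  obtain ⟨q, rfl⟩ : ∃ q, p = q + 1 := ⟨p - 1, by omega⟩
  refine K946.RZ.isZero (Groth.Agent.CurvesC.UnitCoh.isQCoh_unit X) (K946.RZ.of_HU fun V hV => ?_)
  exact subsingleton_of_compare hX hY f hf V hV q

theorem isIso_unitToPush {X Y : Scheme.{u}} [IsIntegral Y] (hY : Pi1.IsNormalScheme Y) (f : X ⟶ Y) (hf : IsModif f) :
    IsIso (ClSub.unitToPush f) := by
  have h1 := Groth.Agent.Fga.UnitRestrict.isIso_unitToPush f fun U => by
    have := isIso_app hY hf U
    exact ConcreteCategory.bijective_of_isIso (f.app U)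
  exact h1

end K74.Main
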