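import Groth.Agent.RatRes.K74.HCOpen
import Groth.Prelude.Def_ClSub2

/-!
# Cohomology of the structure sheaf on opens of schemes, with pullbacks

`C Z n U = H^n(U, O_Z)`; `pbk f n h : C Z n U →+ C Z' n V` for `f : Z' ⟶ Z`, `V ≤ f⁻¹ U`.
-/

set_option autoImplicit false
universe u

open CategoryTheory CategoryTheory.Limits CategoryTheory.Abelian AlgebraicGeometry TopologicalSpace Opposite

noncomputable section

namespace K74.SC

open K74.HC K74.HCOpen K56.PMap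

/-- The structure sheaf as an abelian sheaf. -/
def OO (Z : Scheme.{u}) : CohTop.Ab Z.toTopCat := Coh.toAb (Coh.structureModule Z)

/-- `O_Z → f_* O_{Z'}`. -/
def phi {Z Z' : Scheme.{u}} (f : Z' ⟶ Z) : OO Z ⟶ (CohTop.push f.base).obj (OO Z') :=
  (SheafOfModules.toSheaf Z.ringCatSheaf).map (ClSub.unitToPush f)

/-- Sections. -/
def sec (Z : Scheme.{u}) (U : Z.Opens) : (OO Z).obj.obj (op U) ≃+ Γ(Z, U) := AddEquiv.refl _

theorem sec_map (Z : Scheme.{u}) {U V : Z.Opens} (h : V ≤ U) (s : (OO Z).obj.obj (op U)) :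
    sec Z V ((OO Z).obj.map (homOfLE h).op s) = Z.presheaf.map (homOfLE h).op (sec Z U s) := rfl

theorem phi_app {Z Z' : Scheme.{u}} (f : Z' ⟶ Z) (U : Z.Opens) (s : (OO Z).obj.obj (op U)) :
    sec Z' (f ⁻¹ᵁ U) ((phi f).hom.app (op U) s) = f.app U (sec Z U s) := rfl

theorem phi_comp {Z Z' Z'' : Scheme.{u}} (g : Z'' ⟶ Z') (f : Z' ⟶ Z) :
    phi (g ≫ f) = phi f ≫ (CohTop.push f.base).map (phi g) := by
  apply ObjectProperty.hom_ext
  ext U s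
  exact congr($(Scheme.Hom.comp_app g f U.unop) s)

/-- `H^n(U, O_Z)`. -/
abbrev C (Z : Scheme.{u}) (n : ℕ) (U : Z.Opens) : Type u := HC (OO Z) n U

/-- Restriction. -/
abbrev res {Z : Scheme.{u}} (n : ℕ) {U V : Z.Opens} (h : V ≤ U) : C Z n U →+ C Z n V := rs (OO Z) n h

/-- Pullback. -/
def pbk {Z Z' : Scheme.{u}} (f : Z' ⟶ Z) (n : ℕ) {U : Z.Opens} {V : Z'.Opens} (h : V ≤ f ⁻¹ᵁ U) : C Z n U →+ C Z' n V :=
  pb f.base (phi f) n h

variable {Z Z' Z'' : Scheme.{u}}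

section pbk

variable (f : Z' ⟶ Z) (n : ℕ)

theorem res_pbk {U : Z.Opens} {V V' : Z'.Opens} (h : V ≤ f ⁻¹ᵁ U) (h' : V' ≤ V) (x : C Z n U) :
    res n h' (pbk f n h x) = pbk f n (h'.trans h) x := rs_pb f.base (phi f) n h h' x

theorem pbk_res {U U' : Z.Opens} {V : Z'.Opens} (h : V ≤ f ⁻¹ᵁ U') (h' : U' ≤ U) (x : C Z n U) :
    pbk f n h (res n h' x) = pbk f n (U := U) (h.trans (f.preimage_mono h')) x := pb_rs f.base (phi f) n h h' x

theorem pbk_pbk (g : Z'' ⟶ Z') {U : Z.Opens} {V : Z'.Opens} {W : Z''.Opens} (h : V ≤ f ⁻¹ᵁ U) (h' : W ≤ g ⁻¹ᵁ V)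
    (h'' : W ≤ (g ≫ f) ⁻¹ᵁ U) (x : C Z n U) : pbk g n h' (pbk f n h x) = pbk (g ≫ f) n h'' x := by
  have e := pb_pb g.base (phi g) f.base (phi f) n h h' h'' x
  refine e.trans ?_
  unfold pbk
  rw [phi_comp]
  rfl

theorem res_res {U V W : Z.Opens} (h : V ≤ U) (h' : W ≤ V) (x : C Z n U) : res n h' (res n h x) = res n (h'.trans h) x :=
  rs_rs _ n h h' x

theorem res_refl {U : Z.Opens} (x : C Z n U) : res n (le_refl U) x = x := rs_refl _ n U x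

theorem H0_res {U V : Z.Opens} (h : V ≤ U) (x : C Z 0 U) :
    sec Z V (H0 _ V (res 0 h x)) = Z.presheaf.map (homOfLE h).op (sec Z U (H0 _ U x)) :=
  congrArg (sec Z V) (H0_rs (OO Z) h x)

theorem H0_pbk {U : Z.Opens} {V : Z'.Opens} (h : V ≤ f ⁻¹ᵁ U) (x : C Z 0 U) :
    sec Z' V (H0 _ V (pbk f 0 h x)) = f.appLE U V h (sec Z U (H0 _ U x)) := by
  refine (congrArg (sec Z' V) (H0_pb f.base (phi f) h x)).trans ?_
  rw [Scheme.Hom.appLE]
  rfl

end pbk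

section MV

variable {A B D W : Z.Opens} (h₄ : W = A ⊔ B) (h₁ : D = A ⊓ B)
  {A' B' D' W' : Z'.Opens} (h₄' : W' = A' ⊔ B') (h₁' : D' = A' ⊓ B')
  (f : Z' ⟶ Z)

/-- Mayer-Vietoris connecting map. -/
abbrev dl (n : ℕ) : C Z n D →+ C Z (n + 1) W := δ h₄ h₁ (OO Z) n

theorem pbk_dl (hA : A' ≤ f ⁻¹ᵁ A) (hB : B' ≤ f ⁻¹ᵁ B) (hD : D' ≤ f ⁻¹ᵁ D) (hW : W' ≤ f ⁻¹ᵁ W) (n : ℕ) (z : C Z n D) :
    pbk f (n + 1) hW (dl h₄ h₁ n z) = dl h₄' h₁' n (pbk f n hD z) :=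
  pb_δ f.base (phi f) h₄ h₁ h₄' h₁' hA hB hD hW n z

theorem dl_res_sub (n : ℕ) (a : C Z n A) (b : C Z n B) :
    dl h₄ h₁ n (res n (leCA h₁) a - res n (leCB h₁) b) = 0 := δ_rs_sub h₄ h₁ _ n a b

theorem exists_of_dl_eq_zero (n : ℕ) (z : C Z n D) (hz : dl h₄ h₁ n z = 0) :
    ∃ (a : C Z n A) (b : C Z n B), res n (leCA h₁) a - res n (leCB h₁) b = z := HC.exists_of_δ_eq_zero h₄ h₁ _ n z hz

theorem exists_of_res_eq_zero (n : ℕ) (x : C Z (n + 1) W) (h₂ : res (n + 1) (leAW h₄) x = 0)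
    (h₃ : res (n + 1) (leBW h₄) x = 0) : ∃ z : C Z n D, dl h₄ h₁ n z = x := HC.exists_of_rs_eq_zero h₄ h₁ _ n x h₂ h₃

include h₁ in
theorem exists_of_res_eq (n : ℕ) (a : C Z n A) (b : C Z n B) (h : res n (leCA h₁) a = res n (leCB h₁) b) :
    ∃ x : C Z n W, res n (leAW h₄) x = a ∧ res n (leBW h₄) x = b := HC.exists_of_rs_eq h₄ h₁ _ n a b h

end MV

section open_

theorem isIso_tr_phi (f : Z' ⟶ Z) [IsOpenImmersion f] : IsIso (tr f.base (phi f)) := by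
  refine isIso_tr f.base f.isOpenEmbedding (phi f) fun U hU => ?_
  have h1 : IsIso (f.app U) := by
    have : U ≤ f.opensRange := hU
    exact Scheme.Hom.isIso_app f U this
  exact (ConcreteCategory.bijective_of_isIso (f.app U))

/-- Pullback along an open immersion is bijective. -/
theorem pbk_bijective_of_isOpenImmersion (f : Z' ⟶ Z) [IsOpenImmersion f] (n : ℕ) (U : Z.Opens) (hU : U ≤ f.opensRange) :
    Function.Bijective (pbk f n (le_refl (f ⁻¹ᵁ U))) := by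
  have := isIso_tr_phi f
  exact pb_bijective_of_isOpenEmbedding f.base f.isOpenEmbedding (phi f) n U hU

end open_

end K74.SC
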