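import Groth.Agent.RatRes.K74.SC
import Groth.Agent.CohqA.AffineVanish
import Groth.Agent.CurvesC.UnitCoh

/-!
# Vanishing of `C Z n U` and comparison with `Coh.HH`
-/

set_option autoImplicit false
universe u

open CategoryTheory CategoryTheory.Limits AlgebraicGeometry TopologicalSpace Opposite

namespace K74.SC

open K74.HC

theorem subsingleton_iff_HU (Z : Scheme.{u}) (n : ℕ) (U : Z.Opens) :
    Subsingleton (C Z n U) ↔ Subsingleton (CohTop.HU (X := Z.toTopCat) (Coh.toAb (Coh.structureModule Z)) n U) := Iff.rfl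

theorem subsingleton_top_iff (Z : Scheme.{u}) (n : ℕ) :
    Subsingleton (C Z n ⊤) ↔ Subsingleton (Coh.HH Z (Coh.structureModule Z) n) := by
  rw [subsingleton_iff_HU]
  exact (Groth.Agent.CohtopA.Flasque.HTopEquiv (X := Z.toTopCat) (Coh.toAb (Coh.structureModule Z)) n).toEquiv.subsingleton_congr.symm

theorem subsingleton_of_isAffineOpen (Z : Scheme.{u}) (n : ℕ) (U : Z.Opens) (hU : IsAffineOpen U) :
    Subsingleton (C Z (n + 1) U) := by
  have h4 : Coh.IsQCoh (Coh.structureModule Z) := Groth.Agent.CurvesC.UnitCoh.isQCoh_unit Z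
  rw [subsingleton_iff_HU]
  exact Groth.Agent.CohqA.AffineVanish.HU_subsingleton (Coh.structureModule Z) (n + 1) (by omega) U hU

theorem subsingleton_bot (Z : Scheme.{u}) (n : ℕ) (U : Z.Opens) (hU : U = ⊥) : Subsingleton (C Z n U) := by
  subst hU
  rcases n with _ | n
  · have h1 : Subsingleton Γ(Z, (⊥ : Z.Opens)) := inferInstance
    exact ((H0 (OO Z) (⊥ : Z.Opens)).trans (sec Z (⊥ : Z.Opens))).toEquiv.subsingleton
  · exact subsingleton_of_isAffineOpen Z n _ (isAffineOpen_bot Z)

theorem pbk_bijective_of_eq {Z Z' : Scheme.{u}} (f : Z' ⟶ Z) [IsOpenImmersion f] (n : ℕ) {U : Z.Opens} {V : Z'.Opens}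
    (hU : U ≤ f.opensRange) (hV : V = f ⁻¹ᵁ U) : Function.Bijective (pbk f n (le_of_eq hV)) := by
  subst hV
  exact pbk_bijective_of_isOpenImmersion f n U hU

/-- Pullback to an open subscheme is bijective. -/
theorem pbk_ι_bijective (Z : Scheme.{u}) (n : ℕ) (U : Z.Opens) :
    Function.Bijective (pbk U.ι n (U := U) (V := ⊤) (le_of_eq (Scheme.Opens.ι_preimage_self U).symm)) :=
  pbk_bijective_of_eq U.ι n (by simp) (Scheme.Opens.ι_preimage_self U).symm

theorem subsingleton_opens_iff (Z : Scheme.{u}) (n : ℕ) (U : Z.Opens) :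
    Subsingleton (C Z n U) ↔ Subsingleton (C U.toScheme n ⊤) :=
  (Equiv.ofBijective _ (pbk_ι_bijective Z n U)).subsingleton_congr

end K74.SC
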