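import Groth.Agent.RatRes.K97.Acyclic
import Groth.Agent.RatRes.K74.Compare
import Groth.Agent.UnramB.SmoothLoc

/-!
# Smooth schemes over a field: classes on modifications die on modifications
-/

set_option autoImplicit false
universe u

open CategoryTheory CategoryTheory.Limits AlgebraicGeometry TopologicalSpace Opposite

namespace K74.Smooth

open Groth.Agent.CurvesC.Modif K74.SC K74.Compare

variable (k : Type u) [Field k]

/-- Étale coordinates over a field. -/
theorem exists_etale {X : Scheme.{u}} (a : X ⟶ Spec (CommRingCat.of k)) [Smooth a] (x : X) (W : X.Opens) (hx : x ∈ W) :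
    ∃ (U : X.Opens) (n : ℕ) (e : U.toScheme ⟶ 𝔸(ULift.{u} (Fin n); Spec (CommRingCat.of k))),
      IsAffineOpen U ∧ x ∈ U ∧ U ≤ W ∧ Etale e := by
  obtain ⟨U, V, e, n, g, hxU, hUW, -, hU, hV, hg, hc⟩ :=
    Groth.Agent.UnramB.SmoothLoc.exists_etale_affineSpace_le a x W hx ⊤ trivial
  have hm : IsOpenImmersion (AffineSpace.map (ULift.{u} (Fin n)) V.ι) :=
    MorphismProperty.of_isPullback (P := @IsOpenImmersion) (AffineSpace.isPullback_map V.ι).flip inferInstance
  have hm' : Etale (AffineSpace.map (ULift.{u} (Fin n)) V.ι) := inferInstance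
  exact ⟨U, n, g ≫ AffineSpace.map (ULift.{u} (Fin n)) V.ι, hU, hxU, hUW, inferInstance⟩

/-- Members of the basis. -/
def basis (X : Scheme.{u}) : Set X.Opens :=
  {U | IsAffineOpen U ∧ ∃ (n : ℕ) (e : U.toScheme ⟶ 𝔸(ULift.{u} (Fin n); Spec (CommRingCat.of k))), Etale e}

theorem mem_basis_of_le {X : Scheme.{u}} {U V : X.Opens} (hV : V ∈ basis k X) (hU : IsAffineOpen U) (h : U ≤ V) :
    U ∈ basis k X := by
  obtain ⟨-, n, e, he⟩ := hV
  exact ⟨hU, n, X.homOfLE h ≫ e, inferInstance⟩

theorem isBasis {X : Scheme.{u}} (a : X ⟶ Spec (CommRingCat.of k)) [Smooth a] : Opens.IsBasis (basis k X) := by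
  rw [Opens.isBasis_iff_nbhd]
  intro W x hx
  obtain ⟨U, n, e, hU, hxU, hUW, he⟩ := exists_etale k a x W hx
  exact ⟨U, ⟨hU, n, e, he⟩, hxU, hUW⟩

theorem kill_of_etale (hKey : K97.Acyclic.Key k) {Y : Scheme.{u}} [IsAffine Y] [IsIntegral Y] (d : ℕ)
    (e : Y ⟶ 𝔸(ULift.{u} (Fin d); Spec (CommRingCat.of k))) [Etale e] : Kill Y := by
  intro n Z p hp
  obtain ⟨Z', r, hr, -, hv⟩ := K97.Acyclic.models (k := k) hKey d e p hp
  refine ⟨Z', r, hr, fun x => ?_⟩
  have := (subsingleton_top_iff Z' (n + 1)).2 (hv n)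
  exact Subsingleton.elim _ _

/-- The comparison for smooth schemes. -/
theorem compare_smooth (hKey : K97.Acyclic.Key k) {X : Scheme.{u}} [IsIntegral X] (a : X ⟶ Spec (CommRingCat.of k))
    [Smooth a] [IsSeparated a] [QuasiCompact a] (q : ℕ) (U : X.Opens) (hU : IsCompact (U : Set X)) :
    Inj X q U ∧ Surj X q U := by
  have hsep : X.IsSeparated := by
    constructor
    have h : IsSeparated (a ≫ terminal.from _) := inferInstance
    rwa [show a ≫ terminal.from _ = terminal.from X from Subsingleton.elim _ _] at h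
  have hc : CompactSpace X := QuasiCompact.compactSpace_of_compactSpace a
  have hX : Pi1.IsNormalScheme X := Groth.Agent.Sga4B.SmoothNormal.isNormalScheme_of_smooth a
  refine compare_of_isCompact hX (basis k X) (isBasis k a) ?_ (fun A hA => hA.1) ?_ q U hU
  · intro A hA B hB
    exact mem_basis_of_le k hA (hA.1.inf hB.1) inf_le_left
  · rintro A ⟨hA, n, e, he⟩ hne
    have h1 : IsAffine A.toScheme := hA
    have h2 : Nonempty A.toScheme := hne.to_subtype
    exact kill_of_etale k @hKey n e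

/-- Every affine integral smooth scheme over a field satisfies `Kill`. -/
theorem kill_of_smooth (hKey : K97.Acyclic.Key k) {Y : Scheme.{u}} [IsAffine Y] [IsIntegral Y]
    (a : Y ⟶ Spec (CommRingCat.of k)) [Smooth a] : Kill Y := by
  intro n Z p hp
  have ha : IsAffineHom a := inferInstance
  obtain ⟨Z', r, hr, H⟩ := (compare_smooth k @hKey a (n + 1) ⊤ isCompact_univ).2 p hp
  refine ⟨Z', r, hr, fun x => ?_⟩
  obtain ⟨β, hβ⟩ := H x
  have h0 := subsingleton_of_isAffineOpen Y n ⊤ (isAffineOpen_top Y)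
  have hβ0 : β = 0 := Subsingleton.elim _ _
  rw [hβ0] at hβ
  exact hβ.trans (map_zero _)

end K74.Smooth
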